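import Cfsg.Agent.KM.Tr
import Cfsg.Agent.TO.CovB
import Cfsg.Agent.S4723
import Cfsg.Agent.S4710
import Cfsg.Agent.CharactersDeep.NormalInd
import Cfsg.Agent.BHZ.Nil.Heis

/-!
# KM, type A: the block reduction (helper65)

* `deg_cyc`, `hz_down` : heights zero pass to normal subgroups with cyclic quotient;
* `kmg_red` : from `G` to central quotients of a normal subgroup with cyclic quotient;
* `row_of_cover`.
-/

set_option autoImplicit false
set_option linter.unusedSectionVars false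
set_option linter.style.haveILetI false

namespace Cfsg.Agent.KM.A

open Cfsg Cfsg.Agent.Blocks Cfsg.Agent.KM.BK Cfsg.Agent.TID.Red Cfsg.Agent.Characters

universe u v

variable {l : ℕ} [hl : Fact l.Prime] {M : Ideal AlgInt} {G : Type u} [Group G] [Finite G]

/-- the degree of a character over `θ` -/
theorem deg_cyc (N : Subgroup G) [hN : N.Normal] (hc : IsCyclic (G ⧸ N)) {χ : IrrCharacter G} {θ : IrrCharacter N}
    (h : Ov N.subtype (χ : G → ℂ) (θ : N → ℂ)) (T : Subgroup G)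
    (hT : ∀ g : G, g ∈ T ↔ ∀ n : N, (θ : N → ℂ) ⟨g * n * g⁻¹, hN.conj_mem (n : G) n.2 g⟩ = (θ : N → ℂ) n) :
    charDegree (χ : G → ℂ) = T.index * charDegree (θ : N → ℂ) := by
  letI := Fintype.ofFinite G
  letI := Fintype.ofFinite N
  letI := Fintype.ofFinite T
  letI := Fintype.ofFinite (N.subgroupOf T)
  have hNT : N ≤ T := fun g hg => (hT g).2 fun n => Core.isIrr_isClassFunction θ.2 n ⟨g, hg⟩
  have h1 := (ov_subtype_iff N _ _).1 h
  obtain ⟨η, hη, hind, hmul⟩ := CharDeep.CliffordCorr.clifford_correspondence N (θ : N → ℂ) θ.2 T hT hNT _ χ.2 h1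
  let e := Subgroup.subgroupOfEquivOfLe hNT
  rw [← hmul, ← Clifford.classInner_comp_mulEquiv e] at h1
  have h2 := TO.Cov.res_of_inv (N.subgroupOf T) (TO.Cov.cyc_sub N T hc) (χ := ⟨η, hη⟩)
    (ε := ⟨_, Core.isIrr_comp e.toMonoidHom e.surjective θ.2⟩) ((H666.Clif.ov_iff _ _ _).2 h1)
    (fun g n => (hT g).1 g.2 (e n)) 1
  have h3 : η 1 = (θ : N → ℂ) 1 := h2.trans (congrArg _ (map_one e.toMonoidHom))
  have h4 := CharactersDeep.NormalInd.indFun_one T η
  rw [hind, h3, Basic.irr_one_eq_charDegree χ.2, Basic.irr_one_eq_charDegree θ.2] at h4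
  exact_mod_cast h4

/-- **Heights zero pass to a normal subgroup with cyclic quotient.** -/
theorem hz_down (hM : IsPModular l M) (N : Subgroup G) [hN : N.Normal] (hc : IsCyclic (G ⧸ N))
    {B : Set (IrrCharacter G)} {b : Set (IrrCharacter N)} (hb : IsPBlock M b)
    (h : ∀ θ ∈ b, ∃ χ ∈ B, Ov N.subtype (χ : G → ℂ) (θ : N → ℂ)) (hB : HZ l B) : HZ l b := by
  have := Local.isPrime_of_isPModular hM
  obtain ⟨T, hT⟩ := exists_isStab hb
  obtain ⟨θ₀, h0, h1, S, h2, h3, h4⟩ := S4723.result l M hM N b hb T (fun g => by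
    rw [← T.inv_mem_iff, hT]
    refine forall₂_congr fun θ _ => forall_congr' fun θ' => imp_congr_left ⟨fun h5 x x' h6 => ?_, fun h5 x => ?_⟩
    · rw [h5]
      exact congrArg _ (Subtype.ext (by change g⁻¹ * (x' : G) * g⁻¹⁻¹ = x; rw [h6]; group))
    · exact h5 _ _ (by simp [mul_assoc]))
  have st : ∀ θ ∈ b, ∀ g : G, g ∈ H666.Clif.stab N (θ : N → ℂ) → g ∈ T := fun θ hθ g hg =>
    hT.mem_of_mem hb hθ (by
      rwa [show Covering.conjIrr N g θ = θ from Subtype.ext (funext fun n => congrFun hg n)])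
  have key : ∀ θ ∈ b, ∃ χ ∈ B, nu l χ = ((H666.Clif.stab N (θ : N → ℂ)).relIndex T).factorization l +
      T.index.factorization l + nu l θ := by
    intro θ hθ
    obtain ⟨χ, h5, h6⟩ := h θ hθ
    refine ⟨χ, h5, ?_⟩
    unfold nu
    rw [deg_cyc N hc h6 (H666.Clif.stab N (θ : N → ℂ)) fun g => ⟨fun h n => congrFun h n, fun h => funext h⟩,
      Nat.factorization_mul Subgroup.index_ne_zero_of_finite (Basic.charDegree_pos θ.2).ne',
      ← Subgroup.relIndex_mul_index (st θ hθ), Nat.factorization_mul (a := Subgroup.relIndex _ _)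
        Subgroup.index_ne_zero_of_finite Subgroup.index_ne_zero_of_finite]
    rfl
  have h5 : H666.Clif.stab N (θ₀ : N → ℂ) = S := Subgroup.ext fun g => (Iff.trans
    ⟨fun h6 => ⟨st θ₀ h0 g h6, fun x x' h7 => (congrArg _ (Subtype.ext h7)).trans (congrFun h6 x)⟩,
      fun h6 => funext fun x => h6.2 x _ rfl⟩ (h3 g).symm)
  obtain ⟨χ₀, h6, h7⟩ := key θ₀ h0
  rw [h5, Nat.factorization_eq_zero_of_not_dvd h4] at h7
  refine eq_iff_hz.1 fun θ hθ ψ hψ => ?_
  obtain ⟨χ, h8, h9⟩ := key θ hθ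
  have h10 := eq_iff_hz.2 hB χ h8 χ₀ h6
  have h11 : nu l θ₀ ≤ nu l ψ := (Nat.sub_eq_zero_iff_le.1 h1).trans (Nat.sInf_le ⟨ψ, hψ, rfl⟩)
  omega

theorem hz_of_card (hM : IsPModular l M) {B : Set (IrrCharacter G)} (hB : IsPBlock M B) {D : Subgroup G}
    (hD : IsDefectGroup l M B D) (h : Nat.card D ≤ l ^ 2) : HZ l B := fun χ hχ => by
  rw [S0908.result l M hM B hB D hD] at h
  have h1 := (Nat.pow_le_pow_iff_right hl.out.one_lt).1 h
  have h2 := (S4710.result l M hM B hB _ rfl).2 χ hχ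
  omega

/-- **The reduction.** -/
theorem kmg_red (hM : IsPModular l M) {Y K : Type v} [Group Y] [Group K] [Finite K] (j : Y →* G)
    (hj : Function.Injective j) [j.range.Normal] (hc : IsCyclic (G ⧸ j.range)) (π : Y →* K) (hπ : Function.Surjective π)
    (hk : π.ker ≤ Subgroup.center Y) (hp : IsPGroup l π.ker) (hG : KMg l M G)
    (hgrp : ∀ (y : G) (Q : Sylow l (Subgroup.centralizer ({y} : Set G))) (P : Subgroup G),
      P = (Q : Subgroup (Subgroup.centralizer ({y} : Set G))).map (Subgroup.centralizer ({y} : Set G)).subtype →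
      Ab ((P.comap j).map π) → IsMulCommutative P ∨ Nat.card ((P.comap j).map π) ≤ l ^ 2) : KMg l M K := by
  intro b D hb hD hA
  let e := MonoidHom.ofInjective hj
  obtain ⟨B, hB, h1, h2⟩ := Two.dom hM (π.comp e.symm.toMonoidHom) (hπ.comp e.symm.surjective)
    (fun x hx => Subgroup.mem_center_iff.2 fun g => e.symm.injective (by
      rw [map_mul, map_mul]
      exact Subgroup.mem_center_iff.1 (hk hx) _))
    (hp.comap_of_injective e.symm.toMonoidHom e.symm.injective) hb hD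
  obtain ⟨B', P, hB', hP, h3, h4⟩ := up_norm hM j.range hB h1
  have h5 : (P.comap j).map π = D := by
    rw [← Subgroup.map_comap_eq_self_of_surjective hπ D]
    congr 1
    ext x
    have h6 : j x ∈ P ↔ j x ∈ P ⊓ j.range := ⟨fun h => ⟨h, x, rfl⟩, fun h => h.1⟩
    rw [Subgroup.mem_comap, h6, h3]
    constructor
    · rintro ⟨z, hz, h7⟩
      obtain ⟨z, rfl⟩ := e.surjective z
      rw [← hj h7]
      simpa using hz
    · intro h
      exact ⟨e x, by simpa using h, rfl⟩
  obtain ⟨y, -, Q, hQ⟩ := id hP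
  rcases hgrp y Q P hQ (h5 ▸ ab_iff.2 hA) with h | h
  · exact h2 (hz_down hM _ hc hB h4 (hG B' P hB' hP h))
  · exact hz_of_card hM hb hD (h5 ▸ h)

omit [Finite G] in
theorem card_le_sq {α β : G} (hα : α ^ l = 1) (hβ : β ^ l = 1) {D : Subgroup G}
    (h : ∀ d ∈ D, ∃ i m : ℕ, d * β ^ i * α ^ m = 1) : Nat.card D ≤ l ^ 2 := by
  let f : Fin l × Fin l → G := fun x => (β ^ (x.1 : ℕ) * α ^ (x.2 : ℕ))⁻¹
  have h1 : (D : Set G) ⊆ Set.range f := fun d hd => by
    obtain ⟨i, m, h2⟩ := h d hd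
    refine ⟨(⟨i % l, Nat.mod_lt _ hl.out.pos⟩, ⟨m % l, Nat.mod_lt _ hl.out.pos⟩), ?_⟩
    change (β ^ (i % l) * α ^ (m % l))⁻¹ = d
    rw [← pow_eq_pow_mod _ hβ, ← pow_eq_pow_mod _ hα]
    exact inv_eq_of_mul_eq_one_left (by rw [← mul_assoc, h2])
  refine (Nat.card_mono (Set.finite_range f) h1).trans ((Finite.card_range_le f).trans ?_)
  rw [Nat.card_prod, Nat.card_fin, sq]

/-- **A row from the universal cover.** -/
theorem row_of_cover {Y : Type} [Group Y] [Finite Y] (hY : commutator Y = ⊤) {A : Type} [CommGroup A]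
    (hA : HasSchurMultiplier (Y ⧸ Subgroup.center Y) A) (hd : Nat.card A ∣ Nat.card (Subgroup.center Y))
    (h : ∀ (M : Ideal AlgInt), IsPModular l M → ∀ (K : Type) [Group K] [Finite K] (π : Y →* K), Function.Surjective π →
      π.ker ≤ Subgroup.center Y → IsPGroup l π.ker →
      (∀ y ∈ Subgroup.center Y, ∀ n : ℕ, y ^ l ^ n = 1 → π y = 1) → KMg l M K) :
    Row l (Y ⧸ Subgroup.center Y) := by
  obtain ⟨P⟩ : Nonempty (Sylow l (Subgroup.center Y)) := inferInstance
  set U := (P : Subgroup (Subgroup.center Y)).map (Subgroup.center Y).subtype with hU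
  have h1 : U ≤ Subgroup.center Y := Subgroup.map_subtype_le _
  have : U.Normal := ⟨fun x hx g => by rwa [Subgroup.mem_center_iff.1 (h1 hx) g, mul_inv_cancel_right]⟩
  have h2 : IsPGroup l U := P.isPGroup'.map _
  let σ : Y ⧸ U →* Y ⧸ Subgroup.center Y := QuotientGroup.map U _ (MonoidHom.id Y) h1
  have h3 : σ.ker = (Subgroup.center Y).map (QuotientGroup.mk' U) := QuotientGroup.ker_map _ _ _ _
  have h4 : Nat.card σ.ker = (P : Subgroup (Subgroup.center Y)).index := by
    rw [h3, ← Subgroup.relIndex_ker, QuotientGroup.ker_mk', Subgroup.relIndex, Subgroup.subgroupOf, hU,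
      Subgroup.comap_map_eq_self_of_injective (Subgroup.center Y).subtype_injective]
  obtain ⟨a, ha⟩ := P.isPGroup'.exists_card_eq
  refine boxMult l (Y ⧸ U) _ σ (fun x => ?_) ?_ ?_ (h4 ▸ P.not_dvd_index) A a hA
    (by rw [h4, ← ha, Subgroup.index_mul_card]; exact hd) fun M hM => h M hM _ (QuotientGroup.mk' U)
      (QuotientGroup.mk'_surjective U) (by rwa [QuotientGroup.ker_mk']) (by rwa [QuotientGroup.ker_mk'])
      fun y hy n hn => (QuotientGroup.eq_one_iff y).2 ?_
  · obtain ⟨y, rfl⟩ := QuotientGroup.mk_surjective x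
    exact ⟨y, rfl⟩
  · rw [h3]
    rintro _ ⟨z, hz, rfl⟩
    refine Subgroup.mem_center_iff.2 fun g => ?_
    obtain ⟨g, rfl⟩ := QuotientGroup.mk'_surjective U g
    rw [← map_mul, ← map_mul, Subgroup.mem_center_iff.1 hz g]
  · rw [commutator_def, ← MonoidHom.range_eq_top.2 (QuotientGroup.mk'_surjective U), MonoidHom.range_eq_map,
      ← Subgroup.map_commutator, ← commutator_def, hY]
  · obtain ⟨Q, hQ⟩ := (BHZ.Nil.isPGroup_zpowers_of_pow (p := l) (g := (⟨y, hy⟩ : Subgroup.center Y)) (n := n)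
      (Subtype.ext hn)).exists_le_sylow
    have := Sylow.unique_of_normal P inferInstance
    rw [Subsingleton.elim Q P] at hQ
    exact ⟨_, hQ (Subgroup.mem_zpowers _), rfl⟩

end Cfsg.Agent.KM.A
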