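import Cfsg.Agent.KM.Box
import Cfsg.Agent.KM.Nt
import Cfsg.Agent.KM.Tr
import Cfsg.Agent.KM.Tor.Gen
import Cfsg.Agent.KZ.Dat.GlH

/-!
# KM, type A: the general linear and unitary groups (helper65)

`kmg_GL`, `kmg_GU` : blocks with abelian defect groups in cross characteristic have heights zero.
-/

set_option autoImplicit false
set_option linter.unusedSectionVars false

namespace Cfsg.Agent.KM.A

open Cfsg Matrix Cfsg.Agent.DL Cfsg.Agent.DL.PP Cfsg.Agent.Nodes.RootsA Cfsg.Agent.ODD.C2 Cfsg.Agent.ODD.C2.GlA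
  Cfsg.Agent.KZ.Lie Cfsg.Agent.KZ.Dat Cfsg.Agent.Tits.Roots

section gen

variable {n p : ℕ} [Fact p.Prime] {k : Type} [Field k] [CharP k p] [IsAlgClosed k] {e : ℕ}
  (hk : ∀ a : k, ∃ j, 0 < j ∧ a ^ p ^ j = a) (he : 0 < e)
  {α : MulAut (GL (Fin (n + 1)) k)} {g : (Fin n → ℤ) → Fin n → ℤ} {B : Matrix (Fin (n + 1)) (Fin (n + 1)) ℤ}
  (S : (smA n).Sy (csA n) (isCartan n) α g B)

theorem cl_aux (β : Fin n → ℤ) : ∑ i, β i • cwA i = wtA n β := by
  have h1 : β = ∑ i, β i • sr i := by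
    funext j
    simp [sr, Pi.single_apply]
  conv_rhs => rw [h1, map_sum]
  exact Finset.sum_congr rfl fun i _ => by rw [map_zsmul, wtA_sr]

theorem cl_A (β : Fin n → ℤ) : TO.X.Cn.cl (datA hk he S) β = wtA n β := cl_aux β

theorem pi1_aux (y : Fin (n + 1) → ℤ) (m : ℤ) (β : Fin n → ℤ) (hm : m ≠ 0) (h : m • y = wtA n β) :
    ∃ β', y = wtA n β' := by
  refine ⟨fun i => y ⬝ᵥ fun j : Fin (n + 1) => if j.val ≤ i.val then (1 : ℤ) else 0, smul_right_injective _ hm ?_⟩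
  change m • y = m • wtA n _
  rw [← map_zsmul, h]
  refine congrArg _ (funext fun i => ?_)
  rw [← czA β i]
  change wtA n β ⬝ᵥ _ = m • (y ⬝ᵥ _)
  rw [← smul_dotProduct, h]

theorem pi1_A : TO.X.Cn.Pi1 (datA hk he S) 1 := fun y m β hm h =>
  let ⟨β', h1⟩ := pi1_aux y m β hm (h.trans (cl_A hk he S β))
  ⟨β', (one_smul ℤ y).trans (h1.trans (cl_A hk he S β').symm)⟩

theorem lev_aux (m : ℤ) (u : Fin (n + 1) → ℤ) (i j : Fin (n + 1))
    (h : m ∣ (Pi.single i 1 - Pi.single j 1 : Fin (n + 1) → ℤ) ⬝ᵥ u) :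
    (Pi.single i 1 - Pi.single j 1 : Fin (n + 1) → ℤ) ⬝ᵥ ((1 : ℤ) • u + m • fun i => -(u i / m)) = 0 := by
  rw [sub_dotProduct, single_dotProduct, single_dotProduct, one_mul, one_mul] at h ⊢
  have h3 : u j % m = u i % m := Int.modEq_iff_dvd.2 h
  rw [Int.emod_def, Int.emod_def] at h3
  simp only [Pi.add_apply, Pi.smul_apply, smul_eq_mul]
  linear_combination -h3

theorem lev_A (l : ℕ) : Tor.Lev (datA hk he S) l := fun j u =>
  ⟨1, isCoprime_one_left, fun i => -(u i / (l : ℤ) ^ j), fun a ha h => by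
    obtain ⟨i, i', -, h1, -⟩ := datA_rt' hk he S ha
    rw [h1] at h ⊢
    exact lev_aux _ u i i' h⟩

theorem kmg_A (C : Core) (hq : (datA hk he S).QS) (hN : Deg.NT p (MonoidHom.id _) (α * frP _ p k e)) {l : ℕ}
    (hl : l.Prime) (hp : l ≠ p) {M : Ideal AlgInt} (hM : IsPModular l M) :
    BK.KMg l M ↥(GF (α * frP _ p k e) (GA n k)) := by
  have := (datA hk he S).amb.finite_GF (GA n k)
  have := Fact.mk hl
  exact C.kmg hq (C.dwR (datA hk he S) hN) hl hp (fun _ _ _ _ _ hD hA => Or.inl (Tor.toral (pi1_A hk he S) hl hp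
    (Nat.coprime_one_right l) (lev_A hk he S l) (H592.Defect.isPGroup_of_isDefectGroup hD) hA)) hM

end gen

variable {F : Type} [Field F] [Fintype F] {l : ℕ} [hl : Fact l.Prime] {M : Ideal AlgInt}

theorem ne_of_cast {p : ℕ} {k : Type} [Field k] [CharP k p] (f : F →+* k) (h : (l : F) ≠ 0) : l ≠ p := by
  rintro rfl
  exact h (f.injective (by rw [map_natCast, map_zero, CharP.cast_eq_zero]))

theorem kmg_GL (C : Core) (h : (l : F) ≠ 0) (hM : IsPModular l M) (n : ℕ) : BK.KMg l M (GL (Fin (n + 1)) F) := by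
  obtain ⟨p, _, e, k, _, _, _, f, hk, he, hF⟩ := hasL F
  have := (datL n hk he).amb.finite_GF (GA n k)
  exact kmg_equiv hM (eqvL f hF).symm (kmg_A hk he _ C (datL_qs n hk he) (Nt.nt_L hk he n) hl.out (ne_of_cast f h) hM)

theorem kmg_GU (C : Core) (h : (l : F) ≠ 0) (hM : IsPModular l M) (n : ℕ) {q : ℕ} (hq : Fintype.card F = q ^ 2) :
    BK.KMg l M (GU (n + 1) F q) := by
  obtain ⟨p, _, e, k, _, _, _, f, hk, he, rfl⟩ := hasU F hq
  have := (datU n hk he).amb.finite_GF (GA n k)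
  exact kmg_equiv hM (eqvU f hk he hq).symm
    (kmg_A hk he _ C (datU_qs n hk he) (Nt.nt_U hk he n) hl.out (ne_of_cast f h) hM)

end Cfsg.Agent.KM.A
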