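import Cfsg.Agent.KM.A.Cov
import Cfsg.Agent.KM.A.Tor
import Cfsg.Agent.KM.Easy
import Cfsg.Agent.KM.Two.X3
import Cfsg.Agent.BHZ.Nil.ClRows
import Cfsg.Agent.H259.NatMod
import Cfsg.Agent.S0243

/-!
# KM, type A: the rows of the linear and unitary groups (helper65)

`row_psl`, `row_psu`.
-/

set_option autoImplicit false
set_option linter.unusedSectionVars false

namespace Cfsg.Agent.KM.A

open Cfsg Cfsg.Agent.KM.BK Matrix

variable {l : ℕ} [hl : Fact l.Prime] {F : Type} [Field F] [Fintype F]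

theorem sc_of_eq {n : ℕ} {g : GL (Fin (n + 1)) F} {c : F} (h : g.1 = diagonal fun _ => c) :
    g ∈ (sc F _).range := by
  have h0 : c ≠ 0 := fun h0 => g.ne_zero (by rw [h, h0]; exact diagonal_zero)
  exact ⟨Units.mk0 c h0, Units.ext h.symm⟩

theorem range_SL (n : ℕ) : (SpecialLinearGroup.toGL : SpecialLinearGroup (Fin n) F →* _).range =
    GeneralLinearGroup.det.ker := by
  ext g
  exact ⟨fun ⟨y, hy⟩ => hy ▸ Units.ext y.2, fun h => ⟨⟨g, congrArg Units.val h⟩, Units.ext rfl⟩⟩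

theorem row_SL (C : Core) (hF : (l : F) ≠ 0) {n : ℕ} (hY : commutator (SpecialLinearGroup (Fin (n + 1)) F) = ⊤)
    (hA : HasCyclicSchurMultiplier (ProjectiveSpecialLinearGroup (Fin (n + 1)) F) (Nat.gcd (n + 1) (Fintype.card F - 1))) :
    Row l (ProjectiveSpecialLinearGroup (Fin (n + 1)) F) :=
  row_of_cover hY hA (by rw [S0280.card_center_SL n.succ_pos, BHZ.Nil.card_mult_zmod]) fun M hM K _ _ =>
    kmg_cover hF hM ⊤ (BHZ.Nil.cutClosed_top hF) (fun h => ⟨_, lin_top (by simpa [h] using hF) _⟩)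
      (kmg_equiv hM Subgroup.topEquiv.symm (kmg_GL C hF hM n)) _ SpecialLinearGroup.toGL_injective
      (by rw [range_SL, top_inf_eq])
      (fun y hy => let ⟨_, _, h⟩ := Matrix.SpecialLinearGroup.mem_center_iff.1 hy; sc_of_eq h.symm) K

theorem row_SU (C : Core) (hF : (l : F) ≠ 0) {n q : ℕ} (hq : Fintype.card F = q ^ 2) (hn : 3 ≤ n + 1)
    (hY : commutator (SU (n + 1) F q) = ⊤) (hA : HasCyclicSchurMultiplier (PSU (n + 1) F q) (Nat.gcd (n + 1) (q + 1))) :
    Row l (PSU (n + 1) F q) := by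
  let σ : F →+* F :=
    { toFun := fun x => x ^ q
      map_one' := one_pow q
      map_mul' := fun x y => mul_pow x y q
      map_zero' := zero_pow fun h => by have := Fintype.one_lt_card (α := F); simp [hq, h] at this
      map_add' := LieClassical.HermBasic.add_pow_q hq }
  refine row_of_cover hY hA (by rw [S0279.result hq _ hn, BHZ.Nil.card_mult_zmod]) fun M hM K _ _ =>
    kmg_cover hF hM (GU (n + 1) F q) (BHZ.Nil.cutClosed_preserving hF (BHZ.Nil.biAdd_herm _ q (Nat.card_eq_fintype_card.trans hq)))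
      (fun h => ⟨_, lin_GU (by simpa [h] using hF) hq (σ := σ) (fun _ => rfl) n⟩) (kmg_GU C hF hM n hq)
      (SpecialLinearGroup.toGL.comp (SU (n + 1) F q).subtype)
      (SpecialLinearGroup.toGL_injective.comp Subtype.val_injective) ?_ (fun y hy => ?_) K
  · ext g
    exact ⟨fun ⟨y, hy⟩ => hy ▸ ⟨y.2, Units.ext y.1.2⟩, fun h => ⟨⟨⟨g, congrArg Units.val h.2⟩, h.1⟩, Units.ext rfl⟩⟩
  · obtain ⟨c, h1, h2, rfl⟩ := (LieClassical.SUBasic.mem_center_SU_iff hq hn y).1 hy
    exact sc_of_eq (c := c) rfl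

theorem row_small {S : Type} [Group S] (i j m : ℕ) (h : Nat.card S = 2 ^ i * (3 ^ j * m)) (hm : m ∣ 385)
    (h2 : l = 2 → 32 ∣ 2 ^ i * (3 ^ j * m) → Row l S) (h3 : l = 3 → 27 ∣ 2 ^ i * (3 ^ j * m) → Row l S) : Row l S := by
  have h0 := Nat.pos_of_dvd_of_pos hm (by norm_num)
  have : Finite S := Nat.finite_of_card_ne_zero (by rw [h]; positivity)
  by_cases e2 : l = 2
  · exact (em _).elim (h2 e2) fun h4 => boxSmall l S (Or.inr (Or.inl ⟨e2, h ▸ h4⟩))
  by_cases e3 : l = 3
  · exact (em _).elim (h3 e3) fun h4 => boxSmall l S (Or.inl (by rw [h, e3]; exact h4))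
  refine boxSmall l S (Or.inl fun h4 => ?_)
  rw [h] at h4
  have h5 := (((Nat.coprime_primes hl.out Nat.prime_three).2 e3).pow 3 j |>.dvd_of_dvd_mul_left
    ((((Nat.coprime_primes hl.out Nat.prime_two).2 e2).pow 3 i).dvd_of_dvd_mul_left h4)).trans hm
  have h6 : l < 8 := lt_of_pow_lt_pow_left₀ 3 (by norm_num) ((Nat.le_of_dvd (by norm_num) h5).trans_lt (by norm_num))
  have := hl.out.two_le
  interval_cases l <;> simp_all

/-- **the row of the linear groups** -/
theorem row_psl (C : Core) : RowFor CPsl := by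
  rintro l hl S _ _ _ - ⟨F, _, _, n, hF, hn, h4, ⟨e⟩⟩
  refine Row.of_equiv e ?_
  have h1 := BHZ.Nil.not_dvd_card hF
  have h2 := S0243.result (F := F) rfl n hn
  by_cases hexc : (n, Fintype.card F) ∈ ({(2, 4), (2, 9), (3, 2), (3, 4), (4, 2)} : Set (ℕ × ℕ))
  · simp only [Set.mem_insert_iff, Set.mem_singleton_iff, Prod.mk.injEq] at hexc
    rcases hexc with ⟨rfl, h⟩ | ⟨rfl, h⟩ | ⟨rfl, h⟩ | ⟨rfl, h⟩ | ⟨rfl, h⟩ <;> rw [h] at h1 h2 <;>
      norm_num [Fin.prod_univ_succ] at h2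
    · exact row_small 2 1 5 (by omega) (by norm_num) (by norm_num) (by norm_num)
    · exact row_small 3 2 5 (by omega) (by norm_num) (by norm_num) (by norm_num)
    · exact row_small 3 1 7 (by omega) (by norm_num) (by norm_num) (by norm_num)
    · exact row_small 6 2 35 (by omega) (by norm_num) (fun h => absurd (by norm_num [h]) h1) (by norm_num)
    · exact row_small 6 2 35 (by omega) (by norm_num) (fun h => absurd (by norm_num [h]) h1) (by norm_num)
  obtain ⟨n, rfl⟩ : ∃ m, n = m + 1 := ⟨n - 1, by omega⟩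
  refine row_SL C hF ?_ (S2086.result rfl _ hn h4 hexc)
  rcases hn.eq_or_lt with h | h
  · obtain rfl : n = 1 := by omega
    exact H259.NatMod.commutator_eq_top (h4 rfl)
  · exact S0248.result _ h

/-- **the row of the unitary groups** -/
theorem row_psu (C : Core) (h62 : ∀ (F : Type) [Field F] [Fintype F], Fintype.card F = 4 → Row 3 (PSU 6 F 2)) :
    RowFor CPsu := by
  rintro l hl S _ _ _ hS ⟨F, _, _, n, q, hF, hq, hn, h4, ⟨e⟩⟩
  have h1 := BHZ.Nil.not_dvd_card hF
  have h2 := S0280.result hq n (by omega)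
  by_cases hexc : (n, q) ∈ ({(4, 2), (4, 3), (6, 2)} : Set (ℕ × ℕ))
  · simp only [Set.mem_insert_iff, Set.mem_singleton_iff, Prod.mk.injEq] at hexc
    rw [hq] at h1
    rcases hexc with ⟨rfl, rfl⟩ | ⟨rfl, rfl⟩ | ⟨rfl, rfl⟩ <;> norm_num [Finset.prod_range_succ, Nat.even_iff] at h2
    · refine row_small 6 4 5 ((Nat.card_congr e.toEquiv).trans (by omega)) (by norm_num)
        (fun h => absurd (by norm_num [h]) h1) fun h _ => ?_
      subst h
      obtain ⟨e'⟩ := S0822.result (F := F) (K := ZMod 3) hq (by simp)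
      exact rowLie 3 S hS (Or.inr (Or.inl ⟨ZMod 3, inferInstance, inferInstance, inferInstance, 2, le_rfl,
        fun _ => by simp, ⟨e.trans e'⟩⟩))
    · exact Row.of_equiv e (row_small 7 6 35 (by omega) (by norm_num) (fun h _ => h ▸ Two.row_u43 hq)
        fun h => absurd (by norm_num [h]) h1)
    · exact Row.of_equiv e (row_small 15 6 385 (by omega) (by norm_num) (fun h => absurd (by norm_num [h]) h1)
        fun h _ => h ▸ h62 F hq)
  obtain ⟨n, rfl⟩ : ∃ m, n = m + 1 := ⟨n - 1, by omega⟩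
  exact Row.of_equiv e (row_SU C hF hq hn (LieClassical.HermPerfect.commutator_SU_eq_top hq hn h4)
    (S2089.result _ q hq hn h4 hexc))

end Cfsg.Agent.KM.A
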