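import Cfsg.Agent.KM.A.Two
import Cfsg.Agent.KZ.Dat.GlS

/-!
# KM, type A: the adjoint relations of the general linear and unitary groups (helper65)
-/

set_option autoImplicit false
set_option linter.unusedSectionVars false

namespace Cfsg.Agent.KM.A

open Cfsg Cfsg.Agent.ODD.C2

variable {F : Type} [Field F] [Fintype F]

theorem lin_top (h2 : (2 : F) ≠ 0) (A : Type*) [Ring A] [Algebra F A] : Lin F (⊤ : Subgroup Aˣ) fun _ _ => True := by
  classical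
  obtain ⟨p, _, e, hp, -⟩ := FiniteField.card' F
  have : NeZero p := ⟨hp.ne_zero⟩
  obtain ⟨a, b, h⟩ := CharP.sq_add_sq F p (-1)
  refine ⟨fun _ _ => trivial, fun _ _ => trivial, fun _ _ => trivial, fun _ _ => trivial, trivial, trivial,
    ⟨a, b, by simpa using h, trivial, trivial⟩, fun c _ => ?_⟩
  by_cases h1 : IsSquare (c : F)
  · obtain ⟨r, hr⟩ := h1
    have h0 : r ≠ 0 := fun h0 => c.ne_zero (by rw [hr, h0, mul_zero])
    exact Or.inl ⟨Units.mk0 r h0, trivial, Units.ext (by rw [hr, sq]; rfl)⟩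
  by_cases h3 : IsSquare (2 : F)
  · obtain ⟨r, hr⟩ := h3
    exact Or.inr (Or.inl ⟨r, by rw [hr, sq], trivial⟩)
  have h4 : quadraticChar F (2 * c) = 1 := by
    rw [map_mul, quadraticChar_neg_one_iff_not_isSquare.2 h1, quadraticChar_neg_one_iff_not_isSquare.2 h3]
    norm_num
  obtain ⟨r, hr⟩ := (quadraticChar_one_iff_isSquare (mul_ne_zero h2 c.ne_zero)).1 h4
  refine Or.inr (Or.inr ⟨r / c, ?_, trivial⟩)
  have := c.ne_zero
  field_simp
  rw [sq, ← hr, mul_comm]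

section U

variable {q : ℕ} (h2 : (2 : F) ≠ 0) (hq : Fintype.card F = q ^ 2) {σ : F →+* F} (hs : ∀ x, σ x = x ^ q)

include h2 hq hs

theorem sq_of_frob {x : F} (h : σ x = x ∨ σ x * x = 1) : ∃ r : F, r ^ 2 = x := by
  have h3 : ringChar F ≠ 2 := fun h3 => h2 (by exact_mod_cast (ringChar.spec F 2).2 (h3 ▸ dvd_rfl))
  have h4 := FiniteField.odd_card_of_char_ne_two h3
  obtain ⟨t, rfl⟩ : Odd q := by
    rw [hq, ← Nat.odd_iff] at h4
    exact (Nat.odd_pow_iff two_ne_zero).1 h4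
  by_cases h0 : x = 0
  · exact ⟨0, by simp [h0]⟩
  suffices h5 : IsSquare x from let ⟨r, hr⟩ := h5; ⟨r, by rw [hr, sq]⟩
  rw [FiniteField.isSquare_iff h3 h0, hq, show (2 * t + 1) ^ 2 / 2 = 2 * t * (t + 1) by
    rw [show (2 * t + 1) ^ 2 = 1 + 2 * (2 * t * (t + 1)) by ring]; omega]
  rw [hs] at h
  rcases h with h | h
  · rw [pow_mul, mul_right_cancel₀ h0 (show x ^ (2 * t) * x = 1 * x by rw [← pow_succ, h, one_mul]), one_pow]
  · rw [show 2 * t * (t + 1) = (2 * t + 1 + 1) * t by ring, pow_mul, pow_succ, h, one_pow]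

theorem ab_U : ∃ α β : F, α ^ 2 + β ^ 2 = -1 ∧ σ α = -α ∧ σ β = -β := by
  obtain ⟨i, hi⟩ := sq_of_frob h2 hq hs (x := -1) (Or.inl (by simp))
  rcases sq_eq_sq_iff_eq_or_eq_neg.1 (show σ i ^ 2 = i ^ 2 by rw [← map_pow, hi]; simp) with h | h
  swap
  · exact ⟨i, 0, by simp [hi], h, by simp⟩
  have h3 : ringChar F ≠ 2 := fun h3 => h2 (by exact_mod_cast (ringChar.spec F 2).2 (h3 ▸ dvd_rfl))
  obtain ⟨x, hx⟩ := FiniteField.exists_nonsquare h3
  have h4 : x - σ x ≠ 0 := fun h4 =>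
    let ⟨r, hr⟩ := sq_of_frob h2 hq hs (Or.inl (sub_eq_zero.1 h4).symm)
    hx ⟨r, by rw [← hr, sq]⟩
  have h5 : σ (x - σ x) = -(x - σ x) := by
    rw [map_sub, neg_sub, hs (σ x), hs x, ← pow_mul, ← sq, ← hq, FiniteField.pow_card]
  generalize x - σ x = s at h4 h5
  refine ⟨(s - s⁻¹) / 2, i * (s + s⁻¹) / 2, ?_, ?_, ?_⟩
  · rw [div_pow, div_pow, mul_pow, hi]
    field_simp
    ring
  · rw [map_div₀, map_sub, map_inv₀, h5, map_ofNat]
    ring
  · rw [map_div₀, map_mul, map_add, map_inv₀, h5, h, map_ofNat]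
    ring

theorem lin_GU (n : ℕ) : Lin F (GU (n + 1) F q) fun x x' => x' = st σ x := by
  have k1 : ∀ c : F, st σ (c • (1 : Matrix (Fin (n + 1)) (Fin (n + 1)) F)) = σ c • 1 := fun c => by
    rw [← Algebra.algebraMap_eq_smul_one, st_algebraMap, Algebra.algebraMap_eq_smul_one]
  have k2 : ∀ c : Fˣ, sc F _ c ∈ GU (n + 1) F q ↔ σ c * c = 1 := fun c => by
    rw [KZ.Dat.mem_GU_iff hs, mem_GUs, val_sc, st_algebraMap, ← map_mul,
      map_eq_one_iff _ (algebraMap F (Matrix (Fin (n + 1)) (Fin (n + 1)) F)).injective]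
  obtain ⟨α, β, h3, h4, h5⟩ := ab_U h2 hq hs
  refine ⟨fun h h' => by rw [h, h', st_add], fun h h' => by rw [h, h', st_mul],
    fun g hg => Units.inv_eq_of_mul_eq_one_left ((KZ.Dat.mem_GU_iff hs g).1 hg),
    fun g hg => (KZ.Dat.mem_GU_iff hs g).2 (by rw [mem_GUs, ← hg, Units.inv_mul]),
    by rw [k1, map_inv₀, map_ofNat], by rw [st_neg, st_one], ⟨α, β, h3, by rw [k1, h4], by rw [k1, h5]⟩, fun c hc => ?_⟩
  rw [k2] at hc
  obtain ⟨r, hr⟩ := sq_of_frob h2 hq hs (Or.inr hc)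
  obtain ⟨a, ha⟩ := sq_of_frob h2 hq hs (x := 2) (Or.inl (map_ofNat σ 2))
  have h0 : r ≠ 0 := fun h0 => c.ne_zero (by rw [← hr, h0, sq, mul_zero])
  rcases sq_eq_sq_iff_eq_or_eq_neg.1 (show (σ r * r) ^ 2 = 1 ^ 2 by rw [mul_pow, ← map_pow, hr, hc, one_pow]) with h6 | h6
  · exact Or.inl ⟨Units.mk0 r h0, (k2 _).2 h6, Units.ext hr⟩
  rcases sq_eq_sq_iff_eq_or_eq_neg.1 (show σ a ^ 2 = a ^ 2 by rw [← map_pow, ha, map_ofNat]) with h7 | h7
  · exact Or.inr (Or.inl ⟨a, ha, by rw [k1, h7]⟩)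
  refine Or.inr (Or.inr ⟨a / r, ?_, ?_⟩)
  · rw [← hr, div_pow, div_mul_cancel₀ _ (pow_ne_zero 2 h0), ha]
  · rw [k1, map_div₀, h7, eq_div_of_mul_eq h0 h6, ← hr]
    congr 1
    field_simp

end U

end Cfsg.Agent.KM.A
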