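import Cfsg.Agent.KM.A.Lin
import Cfsg.Agent.KM.A.Red

/-!
# KM, type A: central quotients of the determinant one subgroup (helper65)
-/

set_option autoImplicit false
set_option linter.unusedSectionVars false

namespace Cfsg.Agent.KM.A

open Cfsg Cfsg.Agent.KM.BK Cfsg.Agent.BHZ.Nil Cfsg.Agent.TID.Red Matrix

variable {l : ℕ} [hl : Fact l.Prime] {M : Ideal AlgInt} {F : Type} [Field F] [Fintype F]

theorem sylow_max {G : Type*} [Group G] {Γ : Subgroup G} [Finite Γ] (y : Γ)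
    (Q : Sylow l (Subgroup.centralizer ({y} : Set Γ))) (R : Subgroup G) (hR : R ≤ Γ ⊓ Subgroup.centralizer {(y : G)})
    (hp : IsPGroup l R) : ∃ g ∈ Γ ⊓ Subgroup.centralizer {(y : G)}, ∀ x ∈ R, g * x * g⁻¹ ∈
      ((Q : Subgroup (Subgroup.centralizer ({y} : Set Γ))).map (Subgroup.centralizer ({y} : Set Γ)).subtype).map Γ.subtype := by
  obtain ⟨Q₀, h1⟩ := ((hp.comap_of_injective _ Γ.subtype_injective).comap_of_injective _
    (Subgroup.centralizer ({y} : Set Γ)).subtype_injective).exists_le_sylow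
  obtain ⟨g, hg⟩ := MulAction.exists_smul_eq (Subgroup.centralizer ({y} : Set Γ)) Q₀ Q
  refine ⟨g, ⟨g.1.2, Subgroup.mem_centralizer_singleton_iff.2
    (congrArg Subtype.val (Subgroup.mem_centralizer_singleton_iff.1 g.2))⟩, fun x hx => ?_⟩
  let x' : Subgroup.centralizer ({y} : Set Γ) := ⟨⟨x, (hR hx).1⟩, Subgroup.mem_centralizer_singleton_iff.2
    (Subtype.ext (Subgroup.mem_centralizer_singleton_iff.1 (hR hx).2))⟩
  refine ⟨_, ⟨g * x' * g⁻¹, ?_, rfl⟩, rfl⟩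
  rw [← hg]
  exact Subgroup.smul_mem_pointwise_smul _ (MulAut.conj g) _ (h1 (show x' ∈ _ from hx))

/-- **Central quotients of the determinant one subgroup.** -/
theorem kmg_cover {n : ℕ} (hF : (l : F) ≠ 0) (hM : IsPModular l M) (Γ : Subgroup (GL (Fin n) F)) (hΓ : CutClosed l F Γ)
    (hL : l = 2 → ∃ R, Lin F Γ R) (hG : KMg l M Γ) {Y : Type} [Group Y] (ι : Y →* GL (Fin n) F)
    (hι : Function.Injective ι) (hr : ι.range = Γ ⊓ GeneralLinearGroup.det.ker)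
    (hz : ∀ y ∈ Subgroup.center Y, ι y ∈ (sc F _).range) (K : Type) [Group K] [Finite K] (π : Y →* K)
    (hπ : Function.Surjective π) (hk : π.ker ≤ Subgroup.center Y) (hp : IsPGroup l π.ker)
    (hu : ∀ y ∈ Subgroup.center Y, ∀ m : ℕ, y ^ l ^ m = 1 → π y = 1) : KMg l M K := by
  have h1 : ∀ y, ι y ∈ Γ ⊓ GeneralLinearGroup.det.ker := fun y => hr ▸ ⟨y, rfl⟩
  let j := ι.codRestrict Γ fun y => (h1 y).1
  have h2 : j.range = (GeneralLinearGroup.det.comp Γ.subtype).ker := by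
    ext x
    refine ⟨fun ⟨y, hy⟩ => hy ▸ (h1 y).2, fun hx => ?_⟩
    obtain ⟨y, hy⟩ : (x : GL (Fin n) F) ∈ ι.range := hr ▸ ⟨x.2, hx⟩
    exact ⟨y, Subtype.ext hy⟩
  have : j.range.Normal := h2 ▸ inferInstance
  refine kmg_red hM j (fun _ _ h => hι (congrArg Subtype.val h)) (isCyclic_of_surjective _
    ((QuotientGroup.quotientMulEquivOfEq h2).trans (QuotientGroup.quotientKerEquivRange _)).symm.surjective) π hπ hk hp hG
    fun y Q P hP hA => ?_
  have h3 : IsPGroup l (P.map Γ.subtype) := hP ▸ (Q.isPGroup'.map _).map _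
  have h4 : ∀ x, x ∈ P.comap j ↔ ι x ∈ P.map Γ.subtype := fun x =>
    (Subgroup.mem_map_iff_mem (f := Γ.subtype) Γ.subtype_injective (x := j x)).symm
  have h5 : P.map Γ.subtype ≤ Γ ⊓ Subgroup.centralizer {(y : GL (Fin n) F)} := by
    rw [hP]
    rintro _ ⟨_, ⟨x, -, rfl⟩, rfl⟩
    exact ⟨x.1.2, Subgroup.mem_centralizer_singleton_iff.2
      (congrArg Subtype.val (Subgroup.mem_centralizer_singleton_iff.1 x.2))⟩
  have h6 : ∀ x ∈ P.map Γ.subtype ⊓ GeneralLinearGroup.det.ker, ∃ x', ι x' = x := fun x hx =>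
    show x ∈ ι.range from hr ▸ ⟨(h5 hx.1).1, hx.2⟩
  have h7 : ∀ x, ι x ∈ P.map Γ.subtype → ι x ∈ (sc F _).range → π x = 1 := fun x hx h => by
    obtain ⟨m, hm⟩ := h3 ⟨_, hx⟩
    refine hu x (Subgroup.mem_center_iff.2 fun g => hι ?_) m (hι ?_)
    · rw [map_mul, map_mul, (comm_of_mem h _).eq]
    · rw [map_pow, map_one]
      exact congrArg Subtype.val hm
  rcases sylow_or (S := GeneralLinearGroup.det.ker) hF (hΓ.inf_centralizer {(y : GL (Fin n) F)})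
    (Subgroup.commutator_le.2 fun a _ b _ => by
      rw [MonoidHom.mem_ker, map_commutatorElement, commutatorElement_eq_one_iff_mul_comm, mul_comm])
    (fun H => (em (l = 2)).elim (fun h => by
      obtain ⟨R, L⟩ := hL h
      subst h
      exact gen_two (L.inf _) H) fun h => gen_odd h H) h5 h3 (hP ▸ sylow_max y Q)
    (fun a ha b hb aS bS => by
      obtain ⟨a, rfl⟩ := h6 a ⟨ha, aS⟩
      obtain ⟨b, rfl⟩ := h6 b ⟨hb, bS⟩
      rw [← map_inv, ← map_inv, ← map_mul, ← map_mul, ← map_mul]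
      refine hz _ (hk ?_)
      rw [MonoidHom.mem_ker, map_mul, map_mul, map_mul, hA _ ⟨a, (h4 a).2 ha, rfl⟩ _ ⟨b, (h4 b).2 hb, rfl⟩, map_inv, map_inv]
      group) with h | ⟨a, ha, b, hb, h8, h9, h⟩
  · exact Or.inl ⟨⟨fun a b => Subtype.ext (Subtype.ext
      (Subtype.ext_iff.1 (h.is_comm.comm ⟨_, a, a.2, rfl⟩ ⟨_, b, b.2, rfl⟩) :))⟩⟩
  · obtain ⟨a, rfl⟩ := h6 a ha
    obtain ⟨b, rfl⟩ := h6 b hb
    refine Or.inr (card_le_sq (α := π a) (β := π b) ?_ ?_ ?_)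
    · rw [← map_pow] at h8 ⊢
      exact h7 _ (map_pow ι a l ▸ pow_mem ha.1 l) h8
    · rw [← map_pow] at h9 ⊢
      exact h7 _ (map_pow ι b l ▸ pow_mem hb.1 l) h9
    · rintro _ ⟨x, hx, rfl⟩
      obtain ⟨i, m, h10⟩ := h (ι x) ⟨(h4 x).1 hx, (h1 x).2⟩
      have h11 := mul_mem (mul_mem ((h4 x).1 hx) (pow_mem hb.1 i)) (pow_mem ha.1 m)
      rw [← map_pow, ← map_pow, ← map_mul, ← map_mul] at h10 h11
      exact ⟨i, m, by rw [← map_pow, ← map_pow, ← map_mul, ← map_mul, h7 _ h11 h10]⟩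

end Cfsg.Agent.KM.A
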