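import Cfsg.Agent.BHZ.Nil.Cut3

/-!
# KM, type A: Sylow subgroups of centralizers which are abelian modulo scalars (helper65)

`Γ` is a cut-closed group of units and `S` contains its derived subgroup.  If the elements of `S` in a Sylow
`p`-subgroup `P` of `Γ` commute up to scalars then `P` is abelian or `P ⊓ S` is generated by two elements of
order `p` modulo scalars.
-/

set_option autoImplicit false
set_option linter.unusedSectionVars false

namespace Cfsg.Agent.KM.A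

open Cfsg.Agent.BHZ.Nil
open scoped commutatorElement

section Sc

variable (F : Type*) [Field F] (A : Type*) [Ring A] [Algebra F A]

/-- the scalars -/
def sc : Fˣ →* Aˣ := Units.map (algebraMap F A : F →* A)

variable {F A}

theorem val_sc (t : Fˣ) : ((sc F A t : Aˣ) : A) = algebraMap F A t := rfl

theorem sc_mul_val (t : Fˣ) (x : A) : ((sc F A t : Aˣ) : A) * x = (t : F) • x := by
  rw [val_sc, Algebra.smul_def]

theorem sc_comm_val (t : Fˣ) (x : A) : Commute ((sc F A t : Aˣ) : A) x := Algebra.commutes _ _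

theorem sc_comm (t : Fˣ) (g : Aˣ) : Commute (sc F A t) g :=
  Commute.units_of_val (sc_comm_val (A := A) t (g : A))

theorem comm_of_mem {c : Aˣ} (h : c ∈ (sc F A).range) (g : Aˣ) : Commute c g := by
  obtain ⟨t, rfl⟩ := h
  exact sc_comm t g

theorem eq_one_of_fix {t : Fˣ} {ε : A} (h : ((sc F A t : Aˣ) : A) * ε = ε) (h0 : ε ≠ 0) : t = 1 := by
  rw [sc_mul_val] at h
  have h1 : ((t : F) - 1) • ε = 0 := by rw [sub_smul, h, one_smul, sub_self]
  exact Units.ext (sub_eq_zero.1 ((smul_eq_zero.1 h1).resolve_right h0))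

theorem sc_inj [Nontrivial A] {t : Fˣ} (h : sc F A t = 1) : t = 1 :=
  eq_one_of_fix (ε := (1 : A)) (by rw [h, Units.val_one, one_mul]) one_ne_zero

end Sc

variable {p : ℕ} [hp : Fact p.Prime] {F : Type*} [Field F] {A : Type*} [Ring A] [Algebra F A] [Finite A]
  {Γ S : Subgroup Aˣ}

variable (p F Γ S) in
/-- the hypotheses -/
structure Hyp : Prop where
  ne : (p : F) ≠ 0
  cut : CutClosed p F Γ
  com : ⁅Γ, Γ⁆ ≤ S
  sca : ∀ Q : Subgroup Aˣ, Q ≤ Γ → IsPGroup p Q → ∀ x ∈ Q, ∀ y ∈ Q, x ∈ S → y ∈ S →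
    x * y * x⁻¹ * y⁻¹ ∈ (sc F A).range

variable (p F Γ S) in
/-- the extraspecial configuration -/
structure Ext (a b : Aˣ) : Prop where
  aG : a ∈ Γ
  bG : b ∈ Γ
  aS : a ∈ S
  bS : b ∈ S
  rel : ∃ ζ : Fˣ, ζ ≠ 1 ∧ ζ ^ p = 1 ∧ a * b = sc F A ζ * b * a
  ap : a ^ p ∈ (sc F A).range
  bp : b ^ p ∈ (sc F A).range
  cen : ∀ x ∈ Γ, (∃ n, x ^ p ^ n = 1) → Commute x a → Commute x b → x ∈ (sc F A).range

theorem conj_mem_S (hc : ⁅Γ, Γ⁆ ≤ S) {g x : Aˣ} (hg : g ∈ Γ) (hx : x ∈ Γ) (hS : x ∈ S) : g * x * g⁻¹ ∈ S := by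
  have h1 : g * x * g⁻¹ = ⁅g, x⁆ * x := by rw [commutatorElement_def]; group
  rw [h1]
  exact mul_mem (hc (Subgroup.commutator_mem_commutator hg hx)) hS

theorem conj_sc {c : Aˣ} (h : c ∈ (sc F A).range) (g : Aˣ) : g * c * g⁻¹ = c := by
  rw [← (comm_of_mem h g).eq, mul_inv_cancel_right]

theorem Ext.conj (hc : ⁅Γ, Γ⁆ ≤ S) {a b : Aˣ} (h : Ext p F Γ S a b) {g : Aˣ} (hg : g ∈ Γ) :
    Ext p F Γ S (g * a * g⁻¹) (g * b * g⁻¹) := by
  obtain ⟨ζ, h1, h2, h3⟩ := h.rel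
  refine ⟨mul_mem (mul_mem hg h.aG) (inv_mem hg), mul_mem (mul_mem hg h.bG) (inv_mem hg),
    conj_mem_S hc hg h.aG h.aS, conj_mem_S hc hg h.bG h.bS, ⟨ζ, h1, h2, ?_⟩, ?_, ?_, ?_⟩
  · calc g * a * g⁻¹ * (g * b * g⁻¹) = g * (a * b) * g⁻¹ := by group
      _ = (g * sc F A ζ) * b * a * g⁻¹ := by rw [h3]; group
      _ = _ := by rw [← (sc_comm ζ g).eq]; group
  · rw [_root_.conj_pow, conj_sc h.ap]
    exact h.ap
  · rw [_root_.conj_pow, conj_sc h.bp]
    exact h.bp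
  · rintro x hx ⟨n, hn⟩ h4 h5
    have key : ∀ {y : Aˣ}, Commute x (g * y * g⁻¹) → Commute (g⁻¹ * x * g) y := by
      intro y hy
      calc g⁻¹ * x * g * y = g⁻¹ * (x * (g * y * g⁻¹)) * g := by group
        _ = y * (g⁻¹ * x * g) := by rw [hy.eq]; group
    have h6 := h.cen (g⁻¹ * x * g) (mul_mem (mul_mem (inv_mem hg) hx) hg)
      ⟨n, by
        have := _root_.conj_pow (a := g⁻¹) (b := x) (i := p ^ n)
        rw [inv_inv] at this
        rw [this, hn]; group⟩ (key h4) (key h5)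
    have h7 := conj_sc h6 g
    rw [show g * (g⁻¹ * x * g) * g⁻¹ = x by group] at h7
    rwa [h7]

/-- the elements of `P ⊓ S` modulo scalars -/
theorem Ext.span [Nontrivial A] (H : Hyp p F Γ S) {a b : Aˣ} (h : Ext p F Γ S a b) {P : Subgroup Aˣ} (hP : P ≤ Γ)
    (hp' : IsPGroup p P) (ha : a ∈ P) (hb : b ∈ P) {x : Aˣ} (hx : x ∈ P) (hS : x ∈ S) :
    ∃ i m : ℕ, x * b ^ i * a ^ m ∈ (sc F A).range := by
  obtain ⟨ζ, h1, h2, h3⟩ := h.rel
  have hprim : IsPrimitiveRoot ζ p := by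
    have := IsPrimitiveRoot.orderOf ζ
    rwa [orderOf_eq_prime h2 h1] at this
  have : NeZero p := ⟨hp.out.ne_zero⟩
  have key : ∀ {y c : Aˣ}, y ∈ P → y ∈ S → c ∈ P → c ∈ S → c ^ p ∈ (sc F A).range →
      ∃ i : ℕ, y * c = sc F A ζ ^ i * c * y := by
    intro y c y1 y2 c1 c2 c3
    obtain ⟨t, ht⟩ := H.sca P hP hp' c c1 y y1 c2 y2
    have h4 : c * y = sc F A t * y * c := by rw [ht]; group
    have h5 := pow_mul_of_rel (sc_comm t c) h4 p
    rw [(comm_of_mem c3 y).eq, mul_assoc, ← map_pow] at h5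
    have h6 : t⁻¹ ^ p = 1 := by rw [inv_pow, sc_inj (mul_eq_right.1 h5.symm), inv_one]
    obtain ⟨i, -, hi⟩ := (hprim.map_of_injective (f := Units.coeHom F) Units.val_injective).eq_pow_of_pow_eq_one
      (ξ := ((t⁻¹ : Fˣ) : F)) (by rw [← Units.val_pow_eq_pow_val, h6, Units.val_one])
    have h7 : ζ ^ i = t⁻¹ := Units.ext (by rw [Units.val_pow_eq_pow_val]; exact hi)
    exact ⟨i, by rw [← map_pow, h7, map_inv, rel_swap h4]⟩
  obtain ⟨i, hi⟩ := key hx hS ha h.aS h.ap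
  have hz := sc_comm (A := A) ζ
  have h4 : Commute (x * b ^ i) a := by
    have h5 := pow_mul_of_rel (hz b).inv_left (rel_swap h3) i
    calc x * b ^ i * a = x * ((sc F A ζ)⁻¹ ^ i * a * b ^ i) := by rw [mul_assoc, h5]
      _ = (sc F A ζ)⁻¹ ^ i * (x * a) * b ^ i := by
        rw [← mul_assoc, ← mul_assoc, ← ((hz x).inv_left.pow_left i).eq]; simp only [mul_assoc]
      _ = a * (x * b ^ i) := by rw [hi, inv_pow]; group
  have x1 : x * b ^ i ∈ P := mul_mem hx (pow_mem hb i)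
  obtain ⟨j, hj⟩ := key x1 (mul_mem hS (pow_mem h.bS i)) hb h.bS h.bp
  refine ⟨i, (p - 1) * j, ?_⟩
  generalize x * b ^ i = y at h4 x1 hj ⊢
  have x2 : y * a ^ ((p - 1) * j) ∈ P := mul_mem x1 (pow_mem ha _)
  obtain ⟨n, hn⟩ := hp' ⟨_, x2⟩
  refine h.cen _ (hP x2) ⟨n, congrArg Subtype.val hn⟩ (h4.mul_left (Commute.pow_self _ _)) ?_
  have h5 := pow_mul_of_rel (hz a) h3 ((p - 1) * j)
  have h6 : sc F A ζ ^ ((p - 1) * j) * sc F A ζ ^ j = 1 := by
    rw [← pow_add, ← Nat.succ_mul, Nat.succ_eq_add_one, Nat.sub_add_cancel hp.out.pos, pow_mul, ← map_pow, h2,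
      map_one, one_pow]
  calc y * a ^ ((p - 1) * j) * b = y * (sc F A ζ ^ ((p - 1) * j) * b * a ^ ((p - 1) * j)) := by rw [mul_assoc, h5]
    _ = sc F A ζ ^ ((p - 1) * j) * (y * b) * a ^ ((p - 1) * j) := by
      rw [← mul_assoc, ← mul_assoc, ← ((hz y).pow_left _).eq]; simp only [mul_assoc]
    _ = b * (y * a ^ ((p - 1) * j)) := by
      rw [hj, ← mul_assoc, ← mul_assoc, h6, one_mul, mul_assoc]

/-- odd `p`: the centralizer of the extraspecial group -/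
theorem cen_odd (hp2 : p ≠ 2) (H : Hyp p F Γ S) {a b : Aˣ} (aG : a ∈ Γ) (bG : b ∈ Γ) (aS : a ∈ S) {ζ : Fˣ}
    (h1 : ζ ≠ 1) (h2 : ζ ^ p = 1) (hab : a * b = sc F A ζ * b * a) (ha : a ^ p = 1) (hb : b ^ p = 1) {x : Aˣ}
    (hx : x ∈ Γ) {n : ℕ} (hn : x ^ p ^ n = 1) (xa : Commute x a) (xb : Commute x b) : x ∈ (sc F A).range := by
  classical
  set z := sc F A ζ with hzdef
  have hz : z ^ p = 1 := by rw [hzdef, ← map_pow, h2, map_one]
  have zc : ∀ g, Commute z g := sc_comm ζ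
  have zG : z ∈ Γ := by
    rw [show z = a * b * a⁻¹ * b⁻¹ by rw [hab]; group]
    exact mul_mem (mul_mem (mul_mem aG bG) (inv_mem aG)) (inv_mem bG)
  have hw : av F p (z : A) = 0 := by
    by_contra h0
    exact h1 (eq_one_of_fix (mul_av (val_pow_one hz)) h0)
  have ext : ∀ {X Y : A}, (∀ k : ZMod p, X * Fk F b z k = Y * Fk F b z k) → X = Y := fun h =>
    ext_Fk H.ne hz (zc b) (by rw [hw, mul_zero, mul_zero]) h
  have aF := a_mul_Fk (F := F) hz (zc b) (zc a) hab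
  have aF' : ∀ k : ZMod p, ((a⁻¹ : Aˣ) : A) * Fk F b z k = Fk F b z (k + 1) * (a⁻¹ : Aˣ) := by
    intro k
    have h3 := aF (k + 1)
    rw [add_sub_cancel_right] at h3
    rw [Units.inv_mul_eq_iff_eq_mul, ← mul_assoc, h3, Units.mul_inv_cancel_right]
  have xF : ∀ y ∈ Subgroup.zpowers x, ∀ k : ZMod p, Commute (y : A) (Fk F b z k) := by
    rintro _ ⟨i, rfl⟩ k
    exact commute_Fk (Commute.units_val (xb.zpow_left i)) (Commute.units_val (zc _).symm) k
  obtain ⟨u, uG, -, -, -, hu⟩ := exists_diag H.ne H.cut bG zG hb hz (zc b) (fun k => if k = 0 then x else 1)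
    (fun k => by
      split_ifs
      · exact ⟨hx, xb, (zc x).symm, by rw [hw, mul_zero]⟩
      · exact ⟨one_mem _, Commute.one_left _, Commute.one_left _, by rw [hw, mul_zero]⟩)
  let E : Subgroup Aˣ :=
    { carrier := {g | ∀ k : ZMod p, ∃ y ∈ Subgroup.zpowers x, (g : A) * Fk F b z k = y * Fk F b z k}
      mul_mem' := fun {g g'} hg hg' k => by
        obtain ⟨y, y1, y2⟩ := hg k
        obtain ⟨y', y1', y2'⟩ := hg' k
        refine ⟨y * y', mul_mem y1 y1', ?_⟩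
        rw [Units.val_mul, mul_assoc, y2', (xF y' y1' k).eq, ← mul_assoc, y2, Units.val_mul, mul_assoc, mul_assoc,
          (xF y' y1' k).eq]
      one_mem' := fun k => ⟨1, one_mem _, rfl⟩
      inv_mem' := fun {g} hg k => by
        obtain ⟨y, y1, y2⟩ := hg k
        refine ⟨y⁻¹, inv_mem y1, ?_⟩
        rw [Units.inv_mul_eq_iff_eq_mul, (xF _ (inv_mem y1) k).eq, ← mul_assoc, y2, (xF y y1 k).eq,
          Units.mul_inv_cancel_right] }
  have hE : IsPGroup p E := by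
    rintro ⟨g, hg⟩
    refine ⟨n, Subtype.ext (Units.ext (ext fun k => ?_))⟩
    obtain ⟨y, y1, y2⟩ := hg k
    have h3 : ∀ m : ℕ, ((g ^ m : Aˣ) : A) * Fk F b z k = (y ^ m : Aˣ) * Fk F b z k := by
      intro m
      induction m with
      | zero => rw [pow_zero, pow_zero]
      | succ m ih =>
        rw [pow_succ, Units.val_mul, mul_assoc, y2, (xF y y1 k).eq, ← mul_assoc, ih, pow_succ, Units.val_mul,
          mul_assoc, mul_assoc, (xF y y1 k).eq]
    obtain ⟨i, rfl⟩ := y1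
    have h4 : (x ^ i) ^ p ^ n = 1 := by
      rw [← zpow_natCast, ← zpow_mul, mul_comm, zpow_mul, zpow_natCast, hn, one_zpow]
    have h5 := h3 (p ^ n)
    rw [show (fun i : ℤ => x ^ i) i = x ^ i from rfl, h4] at h5
    exact h5
  have aE : ∀ g ∈ E, a * g * a⁻¹ ∈ E := by
    intro g hg k
    obtain ⟨y, y1, y2⟩ := hg (k + 1)
    refine ⟨y, y1, ?_⟩
    have h3 : Commute (y : A) (a : A) := by
      obtain ⟨i, rfl⟩ := y1
      exact Commute.units_val (xa.zpow_left i)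
    rw [Units.val_mul, Units.val_mul, mul_assoc, aF', mul_assoc, ← mul_assoc (g : A), y2, ← mul_assoc,
      ← mul_assoc, ← h3.eq, mul_assoc (y : A), aF, add_sub_cancel_right, mul_assoc, Units.mul_inv_cancel_right]
  have uE : u ∈ E := fun k => ⟨_, by
    split_ifs
    exacts [Subgroup.mem_zpowers x, one_mem _], hu k⟩
  have hQ : IsPGroup p (E ⊔ Subgroup.zpowers a : Subgroup Aˣ) :=
    IsPGroup.to_sup_of_normal_left' hE (isPGroup_zpowers_of_pow (n := 1) (by rw [pow_one, ha]))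
      (Subgroup.zpowers_le.2 (Subgroup.mem_normalizer_fintype aE))
  set t := u * (a * u⁻¹ * a⁻¹) with ht
  have tG : t ∈ ⁅Γ, Γ⁆ := by
    have := Subgroup.commutator_mem_commutator uG aG
    rwa [commutatorElement_def, mul_assoc, mul_assoc, ← mul_assoc a] at this
  obtain ⟨c, hc⟩ := H.sca ((E ⊔ Subgroup.zpowers a) ⊓ Γ) inf_le_right (hQ.to_le inf_le_left) t
    ⟨Subgroup.mem_sup_left (mul_mem uE (aE _ (inv_mem uE))), Subgroup.commutator_le_self _ tG⟩ a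
    ⟨Subgroup.mem_sup_right (Subgroup.mem_zpowers a), aG⟩ (H.com tG) aS
  have h3 : t * a = sc F A c * a * t := by rw [hc]; group
  have tF : ∀ k : ZMod p, k + 1 ≠ 0 → (t : A) * Fk F b z k = u * Fk F b z k := by
    intro k hk
    have h4 : ((u⁻¹ : Aˣ) : A) * Fk F b z (k + 1) = Fk F b z (k + 1) := by
      rw [Units.inv_mul_eq_iff_eq_mul, hu, if_neg hk, Units.val_one, one_mul]
    rw [ht, Units.val_mul, Units.val_mul, Units.val_mul, mul_assoc, mul_assoc, aF', mul_assoc,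
      ← mul_assoc ((u⁻¹ : Aˣ) : A), h4, ← mul_assoc (a : A), aF, add_sub_cancel_right, Units.mul_inv_cancel_right]
  have h20 : (1 : ZMod p) + 1 ≠ 0 := by
    intro h
    have h' : ((2 : ℕ) : ZMod p) = 0 := by rw [← h]; norm_num
    rw [ZMod.natCast_eq_zero_iff] at h'
    exact hp2 ((Nat.prime_dvd_prime_iff_eq hp.out Nat.prime_two).1 h')
  have h4 : (x : A) * Fk F b z (0 : ZMod p) = sc F A c * Fk F b z (0 : ZMod p) := by
    have h5 := congrArg (fun g : Aˣ => (g : A) * Fk F b z (1 : ZMod p)) h3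
    simp only [Units.val_mul] at h5
    rw [mul_assoc, mul_assoc, tF 1 h20, hu, if_neg one_ne_zero, Units.val_one, one_mul, mul_assoc, aF, sub_self,
      ← mul_assoc, ← mul_assoc, tF 0 (by rw [zero_add]; exact one_ne_zero), hu, if_pos rfl] at h5
    exact (Units.mul_left_inj a).1 h5
  have h5 : ∀ m : ℕ, (x : A) * Fk F b z (-(m : ZMod p)) = sc F A c * Fk F b z (-(m : ZMod p)) := by
    intro m
    induction m with
    | zero => simpa using h4
    | succ m ih =>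
      have h6 := congrArg (fun X : A => (a : A) * X) ih
      rw [← mul_assoc, ← (Commute.units_val xa).eq, mul_assoc, aF, ← mul_assoc (a : A), ← (sc_comm_val c _).eq,
        mul_assoc, aF, ← mul_assoc, ← mul_assoc] at h6
      rw [Nat.cast_succ, neg_add, ← sub_eq_add_neg]
      exact (Units.mul_left_inj a).1 h6
  refine ⟨c, Units.ext (ext fun k => ?_)⟩
  have h6 := h5 (-k).val
  rw [ZMod.natCast_zmod_val, neg_neg] at h6
  exact h6.symm

variable (p F Γ S) in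
/-- a nonabelian `p`-subgroup gives the extraspecial configuration -/
def Gen : Prop := ∀ a ∈ Γ, ∀ b ∈ Γ, ∀ c : Aˣ, Commute c a → Commute c b → c ^ p = 1 → c ≠ 1 → a * b = c * b * a →
  ∀ n : ℕ, a ^ p ^ n = 1 → b ^ p ^ n = 1 →
    ∃ (a' b' : Aˣ) (Q : Subgroup Aˣ), Ext p F Γ S a' b' ∧ Q ≤ Γ ∧ IsPGroup p Q ∧ a' ∈ Q ∧ b' ∈ Q

theorem gen_odd (hp2 : p ≠ 2) (H : Hyp p F Γ S) : Gen p F Γ S := by
  intro a aG b bG c ca cb hc hc1 hab n ha hb
  have cG : c ∈ Γ := by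
    rw [show c = a * b * a⁻¹ * b⁻¹ by rw [hab]; group]
    exact mul_mem (mul_mem (mul_mem aG bG) (inv_mem aG)) (inv_mem bG)
  obtain ⟨a', b', z, u, v, hh, hle⟩ := exists_heis hp2 H.ne H.cut aG bG cG ca cb hc hc1 hab ha hb
  have hN := hle.trans inf_le_left
  have haE : a' ∈ Subgroup.closure ({a', b'} : Set Aˣ) := Subgroup.subset_closure (by simp)
  have hbE : b' ∈ Subgroup.closure ({a', b'} : Set Aˣ) := Subgroup.subset_closure (by simp)
  have hE : Subgroup.closure ({a', b'} : Set Aˣ) ≤ ⁅Γ, Γ⁆ := hh.le_commutator.trans (Subgroup.commutator_mono hN hN)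
  have hEG := hE.trans (Subgroup.commutator_le_self Γ)
  obtain ⟨ζ, hζ⟩ := H.sca _ hEG hh.isPGroup a' haE b' hbE (H.com (hE haE)) (H.com (hE hbE))
  have h1 : z = sc F A ζ := by rw [hζ, hh.z_eq, commutatorElement_def]
  subst h1
  have : Nontrivial A := by
    by_contra h
    rw [not_nontrivial_iff_subsingleton] at h
    exact hc1 (Units.ext (Subsingleton.elim _ _))
  have h2 : ζ ≠ 1 := fun h => hh.hz1 (by rw [h, map_one])
  have h3 : ζ ^ p = 1 := sc_inj (A := A) (by rw [map_pow, hh.hz])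
  refine ⟨a', b', _, ⟨hEG haE, hEG hbE, H.com (hE haE), H.com (hE hbE), ⟨ζ, h2, h3, hh.hab⟩,
    by rw [hh.ha]; exact one_mem _, by rw [hh.hb]; exact one_mem _, ?_⟩, hEG, hh.isPGroup, haE, hbE⟩
  rintro x hx ⟨m, hm⟩ xa xb
  exact cen_odd hp2 H (hEG haE) (hEG hbE) (H.com (hE haE)) h2 h3 hh.hab hh.ha hh.hb hx hm xa xb

/-- **The group lemma.** -/
theorem sylow_or (hF : (p : F) ≠ 0) (hΓ : CutClosed p F Γ) (hc : ⁅Γ, Γ⁆ ≤ S) (hG : Hyp p F Γ S → Gen p F Γ S)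
    {P : Subgroup Aˣ} (hP : P ≤ Γ) (hp' : IsPGroup p P)
    (hmax : ∀ Q : Subgroup Aˣ, Q ≤ Γ → IsPGroup p Q → ∃ g ∈ Γ, ∀ x ∈ Q, g * x * g⁻¹ ∈ P)
    (h0 : ∀ x ∈ P, ∀ y ∈ P, x ∈ S → y ∈ S → x * y * x⁻¹ * y⁻¹ ∈ (sc F A).range) :
    IsMulCommutative P ∨ ∃ a ∈ P ⊓ S, ∃ b ∈ P ⊓ S, a ^ p ∈ (sc F A).range ∧ b ^ p ∈ (sc F A).range ∧
      ∀ x ∈ P ⊓ S, ∃ i m : ℕ, x * b ^ i * a ^ m ∈ (sc F A).range := by
  have H : Hyp p F Γ S := by
    refine ⟨hF, hΓ, hc, fun Q h1 h2 x hx y hy xS yS => ?_⟩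
    obtain ⟨g, hg, h3⟩ := hmax Q h1 h2
    have h4 := h0 _ (h3 x hx) _ (h3 y hy) (conj_mem_S hc hg (h1 hx) xS) (conj_mem_S hc hg (h1 hy) yS)
    have h5 := conj_sc h4 g⁻¹
    rw [← h5] at h4
    convert h4 using 1
    group
  by_cases hn : IsMulCommutative P
  · exact Or.inl hn
  right
  obtain ⟨a, b, c, hcz, hc1, hcp, hab⟩ := exists_triple hp' hn
  obtain ⟨n, hcard⟩ := hp'.exists_card_eq
  have hpw : ∀ d : P, (d : Aˣ) ^ p ^ n = 1 := fun d => by
    rw [← Subgroup.coe_pow, ← hcard, pow_card_eq_one', Subgroup.coe_one]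
  have : Nontrivial A := by
    by_contra h
    rw [not_nontrivial_iff_subsingleton] at h
    exact hc1 (Subtype.ext (Units.ext (Subsingleton.elim _ _)))
  obtain ⟨a', b', Q, h1, h2, h3, h4, h5⟩ := hG H a (hP a.2) b (hP b.2) c
    (congrArg Subtype.val (Subgroup.mem_center_iff.1 hcz a).symm)
    (congrArg Subtype.val (Subgroup.mem_center_iff.1 hcz b).symm) (congrArg Subtype.val hcp)
    (fun h => hc1 (Subtype.ext h)) (congrArg Subtype.val hab) n (hpw a) (hpw b)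
  obtain ⟨g, hg, h6⟩ := hmax Q h2 h3
  have h7 := h1.conj hc hg
  exact ⟨_, ⟨h6 _ h4, h7.aS⟩, _, ⟨h6 _ h5, h7.bS⟩, h7.ap, h7.bp,
    fun x hx => h7.span H hP hp' (h6 _ h4) (h6 _ h5) hx.1 hx.2⟩

end Cfsg.Agent.KM.A
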