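import Cfsg.Agent.KM.A.Grp

/-!
# KM, type A: the group lemma at the prime two (helper65)

`R x x'` says that `x'` is an adjoint of `x`.  A nonabelian `2`-subgroup of `Γ` gives a quaternion group of order eight
in the derived group of `Γ`.
-/

set_option autoImplicit false
set_option linter.unusedSectionVars false

namespace Cfsg.Agent.KM.A

open Cfsg.Agent.BHZ.Nil
open scoped commutatorElement

variable {F : Type*} [Field F] {A : Type*} [Ring A] [Algebra F A] {Γ S : Subgroup Aˣ} {R : A → A → Prop}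

variable (F Γ R) in
/-- the adjoint relation -/
structure Lin : Prop where
  add : ∀ {x x' y y'}, R x x' → R y y' → R (x + y) (x' + y')
  mul : ∀ {x x' y y'}, R x x' → R y y' → R (x * y) (y' * x')
  mem : ∀ g ∈ Γ, R (g : A) ((g⁻¹ : Aˣ) : A)
  of : ∀ g : Aˣ, R (g : A) ((g⁻¹ : Aˣ) : A) → g ∈ Γ
  half : R ((2 : F)⁻¹ • 1) ((2 : F)⁻¹ • 1)
  neg1 : R (-1) (-1)
  ab : ∃ α β : F, α ^ 2 + β ^ 2 = -1 ∧ R (α • 1) ((-α) • 1) ∧ R (β • 1) ((-β) • 1)
  tri : ∀ c : Fˣ, sc F A c ∈ Γ → (∃ r : Fˣ, sc F A r ∈ Γ ∧ r ^ 2 = c) ∨ (∃ a : F, a ^ 2 = 2 ∧ R (a • 1) (a • 1)) ∨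
    ∃ l : F, l ^ 2 * c = 2 ∧ R (l • 1) ((c * l) • 1)

theorem Lin.smul (L : Lin F Γ R) {s s' : F} (h : R (s • 1) (s' • 1)) {x x' : A} (hx : R x x') : R (s • x) (s' • x') := by
  have := L.mul h hx
  rwa [smul_mul_assoc, one_mul, mul_smul_comm, mul_one] at this

theorem Lin.neg (L : Lin F Γ R) {x x' : A} (hx : R x x') : R (-x) (-x') := by
  have := L.mul L.neg1 hx
  rwa [neg_one_mul, mul_neg_one] at this

theorem Lin.one (L : Lin F Γ R) : R 1 1 := L.mem 1 (one_mem _)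

theorem Lin.ex (L : Lin F Γ R) {x x' : A} (h : R x x') (h1 : x * x' = 1) (h2 : x' * x = 1) :
    ∃ g ∈ Γ, (g : A) = x ∧ ((g⁻¹ : Aˣ) : A) = x' := ⟨⟨x, x', h1, h2⟩, L.of _ h, rfl, rfl⟩

theorem Lin.inf (L : Lin F Γ R) (y : Aˣ) :
    Lin F (Γ ⊓ Subgroup.centralizer {y}) fun x x' => R x x' ∧ Commute (y : A) x ∧ Commute (y : A) x' := by
  have hs : ∀ s : F, Commute (y : A) (s • 1) := fun s => (Commute.one_right _).smul_right s
  have hc : ∀ c : Fˣ, sc F A c ∈ Subgroup.centralizer ({y} : Set Aˣ) := fun c =>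
    Subgroup.mem_centralizer_singleton_iff.2 (sc_comm c y).eq
  obtain ⟨α, β, h1, h2, h3⟩ := L.ab
  refine ⟨fun h h' => ⟨L.add h.1 h'.1, h.2.1.add_right h'.2.1, h.2.2.add_right h'.2.2⟩,
    fun h h' => ⟨L.mul h.1 h'.1, h.2.1.mul_right h'.2.1, h'.2.2.mul_right h.2.2⟩, fun g hg => ?_, fun g hg => ?_,
    ⟨L.half, hs _, hs _⟩, ⟨L.neg1, Commute.neg_one_right _, Commute.neg_one_right _⟩,
    ⟨α, β, h1, ⟨h2, hs _, hs _⟩, h3, hs _, hs _⟩, fun c hc' => ?_⟩
  · have h4 : Commute y g := (Subgroup.mem_centralizer_singleton_iff.1 hg.2).symm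
    exact ⟨L.mem g hg.1, Commute.units_val h4, Commute.units_val h4.inv_right⟩
  · exact ⟨L.of g hg.1, Subgroup.mem_centralizer_singleton_iff.2 (Commute.units_of_val hg.2.1).symm.eq⟩
  · rcases L.tri c hc'.1 with ⟨r, h4, h5⟩ | ⟨a, h4, h5⟩ | ⟨l, h4, h5⟩
    · exact Or.inl ⟨r, ⟨h4, hc r⟩, h5⟩
    · exact Or.inr (Or.inl ⟨a, h4, h5, hs _, hs _⟩)
    · exact Or.inr (Or.inr ⟨l, h4, h5, hs _, hs _⟩)

section Id

variable {e a b : A}

theorem d8_id (aa : a * a = e) (bb : b * b = e) (ba : b * a = -(a * b)) (eb : e * b = b)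
    (ae : a * e = a) {α β : F} (h : α ^ 2 + β ^ 2 = -1) :
    (α • a + β • b) * (α • a + β • b) = -e ∧ a * b * (α • a + β • b) = -((α • a + β • b) * (a * b)) := by
  have aa' : ∀ x, a * (a * x) = e * x := fun x => by rw [← mul_assoc, aa]
  have ba' : ∀ x, b * (a * x) = -(a * (b * x)) := fun x => by rw [← mul_assoc, ba, neg_mul, mul_assoc]
  constructor
  · simp only [mul_add, add_mul, smul_mul_assoc, mul_smul_comm, aa, bb, ba]
    have h1 : -e = (α ^ 2 + β ^ 2) • e := by rw [h, neg_smul, one_smul]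
    rw [h1]
    module
  · simp only [mul_add, add_mul, smul_mul_assoc, mul_smul_comm, mul_assoc, aa', ba', ba, bb, mul_neg, eb, ae]
    module

theorem q8_id (aa : a * a = -e) (bb : b * b = -e) (ba : b * a = -(a * b)) (ee : e * e = e) (ea : e * a = a)
    (eb : e * b = b) (be : b * e = b) (ae : a * e = a) :
    (-e + a + b + a * b) * a = a * b * (-e + a + b + a * b) ∧ (-e + a + b + a * b) * b = a * (-e + a + b + a * b) ∧
      (-e + a + b + a * b) * (-e + -a + -b + -(a * b)) = e + e + e + e ∧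
      (-e + -a + -b + -(a * b)) * (-e + a + b + a * b) = e + e + e + e := by
  have aa' : ∀ x, a * (a * x) = -(e * x) := fun x => by rw [← mul_assoc, aa, neg_mul]
  have ba' : ∀ x, b * (a * x) = -(a * (b * x)) := fun x => by rw [← mul_assoc, ba, neg_mul, mul_assoc]
  have ea' : ∀ x, e * (a * x) = a * x := fun x => by rw [← mul_assoc, ea]
  refine ⟨?_, ?_, ?_, ?_⟩ <;>
  · simp only [mul_add, add_mul, mul_assoc, aa', ba', ea', aa, ba, bb, mul_neg, neg_mul, neg_neg, ee, ea, eb, ae, be]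
    abel

end Id

theorem av_two (x : A) : av F 2 x = (2 : F)⁻¹ • (1 + x) := by
  rw [av, Finset.sum_range_succ, Finset.sum_range_one, pow_zero, pow_one, Nat.cast_ofNat]

theorem two_av (h2 : (2 : F) ≠ 0) (x : A) : av F 2 x + av F 2 x = 1 + x := by
  rw [← two_smul F, av_two, smul_smul, mul_inv_cancel₀ h2, one_smul]

theorem mul_co (h2 : (2 : F) ≠ 0) {z : Aˣ} (hz : z ^ 2 = 1) :
    (z : A) * (1 - av F 2 (z : A)) = -(1 - av F 2 (z : A)) := by
  rw [mul_sub, mul_one, mul_av (val_pow_one hz), neg_sub, sub_eq_sub_iff_add_eq_add, two_av h2, add_comm]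

theorem eq_zero_of_neg (h2 : (2 : F) ≠ 0) {x : A} (h : x = -x) : x = 0 := by
  have h1 : (2 : F) • x = 0 := by rw [two_smul]; nth_rewrite 1 [h]; rw [neg_add_cancel]
  exact (smul_eq_zero.1 h1).resolve_left h2

variable (F Γ) in
/-- two elements which anticommute on the space where `z` is `-1` and are trivial on the complement -/
structure Tri (a b z : Aˣ) : Prop where
  aG : a ∈ Γ
  bG : b ∈ Γ
  z2 : z ^ 2 = 1
  z1 : z ≠ 1
  za : Commute z a
  zb : Commute z b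
  rel : a * b = z * b * a
  aw : (a : A) * av F 2 (z : A) = av F 2 (z : A)
  bw : (b : A) * av F 2 (z : A) = av F 2 (z : A)

theorem mem_of_rel {a b c : Aˣ} (aG : a ∈ Γ) (bG : b ∈ Γ) (hab : a * b = c * b * a) : c ∈ ⁅Γ, Γ⁆ := by
  rw [show c = ⁅a, b⁆ by rw [commutatorElement_def, hab]; group]
  exact Subgroup.commutator_mem_commutator aG bG

theorem exists_cut (h2 : (2 : F) ≠ 0) (hΓ : CutClosed 2 F Γ) {a b c : Aˣ} (aG : a ∈ Γ) (bG : b ∈ Γ) (hc : c ^ 2 = 1)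
    (ca : Commute c a) (cb : Commute c b) (hab : a * b = c * b * a) {ε : A} (hε : ε * ε = ε) (hg : Good Γ ε)
    (ea : Commute (a : A) ε) (eb : Commute (b : A) ε) (h0 : (1 - av F 2 (c : A)) * ε ≠ 0) :
    ∃ a' b' z : Aˣ, Tri F Γ a' b' z ∧ av F 2 (z : A) = 1 - (1 - av F 2 (c : A)) * ε ∧
      (∀ m i : ℕ, ((a ^ m : Aˣ) : A) * ε = (c ^ i : Aˣ) * ε ∨ (i = 1 ∧ ((a ^ m : Aˣ) : A) * ε = -ε) → a' ^ m = z ^ i) ∧
      ∀ m i : ℕ, ((b ^ m : Aˣ) : A) * ε = (c ^ i : Aˣ) * ε → b' ^ m = z ^ i := by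
  have cG : c ∈ Γ := Subgroup.commutator_le_self _ (mem_of_rel aG bG hab)
  have ec : Commute (c : A) ε := by
    rw [show c = a * b * a⁻¹ * b⁻¹ by rw [hab]; group, Units.val_mul, Units.val_mul, Units.val_mul]
    exact ((ea.mul_left eb).mul_left ea.units_inv_left).mul_left eb.units_inv_left
  have hce := mul_co h2 hc
  have hw : (1 - av F 2 (c : A)) * (1 - av F 2 (c : A)) = 1 - av F 2 (c : A) :=
    IsIdempotentElem.one_sub (av_idem h2 (val_pow_one hc))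
  have hgw : Good Γ (1 - av F 2 (c : A)) := (hΓ.good cG hc).one_sub
  have hcm : ∀ {g : A}, Commute g c → Commute g (1 - av F 2 (c : A)) := fun h =>
    (Commute.one_right _).sub_right (commute_av h)
  have we := hcm ec.symm
  have wa := hcm (Commute.units_val ca.symm)
  have wb := hcm (Commute.units_val cb.symm)
  have wc := hcm (Commute.refl (c : A))
  generalize 1 - av F 2 (c : A) = e at h0 hce hw hgw we wa wb wc ⊢
  have hη : e * ε * (e * ε) = e * ε := by rw [mul_assoc, ← mul_assoc ε, we.eq, mul_assoc, hε, ← mul_assoc, hw]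
  have hm : ∀ g : commU (e * ε), g.1 ∈ Γ → Commute (g.1 : A) ε → Commute (g.1 : A) e → cutHom hη g ∈ Γ := by
    intro g g1 g2 g3
    obtain ⟨c1, c2, c3⟩ := hg g g1 g2
    obtain ⟨d1, d2, d3⟩ := hgw c1 c2 (by
      rw [c3]
      exact (g3.mul_left we).add_left ((Commute.one_left _).sub_left we))
    rwa [show cutHom hη g = d1 from Units.ext (by
      rw [val_cutHom, d3, c3]
      generalize (g.1 : A) = x
      rw [← we.eq]
      noncomm_ring)]
  let a₁ : commU (e * ε) := ⟨a, wa.mul_right ea⟩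
  let b₁ : commU (e * ε) := ⟨b, wb.mul_right eb⟩
  let c₁ : commU (e * ε) := ⟨c, wc.mul_right ec⟩
  have hcη : (c : A) * (e * ε) = -(e * ε) := by rw [← mul_assoc, hce, neg_mul]
  have hav : av F 2 (cutHom hη c₁ : A) = 1 - e * ε := by
    rw [av_two, val_cutHom]
    change (2 : F)⁻¹ • (1 + ((c : A) * (e * ε) + (1 - e * ε))) = _
    rw [hcη, show 1 + (-(e * ε) + (1 - e * ε)) = (2 : F) • (1 - e * ε) by rw [two_smul]; abel, smul_smul,
      inv_mul_cancel₀ h2, one_smul]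
  have hfix : ∀ g, (cutHom hη g : A) * (1 - e * ε) = 1 - e * ε := fun g => by
    rw [val_cutHom, add_mul, mul_assoc, mul_sub (e * ε), mul_one, hη, sub_self, mul_zero, zero_add]
    exact IsIdempotentElem.one_sub hη
  have key : ∀ (g : commU (e * ε)) (m i : ℕ), ((g.1 ^ m : Aˣ) : A) * (e * ε) = (c ^ i : Aˣ) * (e * ε) →
      cutHom hη g ^ m = cutHom hη c₁ ^ i := fun g m i h => by
    rw [← map_pow, ← map_pow]
    exact Units.ext (congrArg (· + (1 - e * ε)) h)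
  refine ⟨cutHom hη a₁, cutHom hη b₁, cutHom hη c₁, ⟨hm a₁ aG ea wa, hm b₁ bG eb wb, ?_, fun h => ?_,
    Commute.map (Subtype.ext ca.eq : c₁ * a₁ = a₁ * c₁) _, Commute.map (Subtype.ext cb.eq : c₁ * b₁ = b₁ * c₁) _, ?_,
    by rw [hav, hfix], by rw [hav, hfix]⟩, hav, fun m i h => key a₁ m i ?_, fun m i h => key b₁ m i ?_⟩
  · rw [← map_pow, show c₁ ^ 2 = 1 from Subtype.ext hc, map_one]
  · have h1 : (c : A) * (e * ε) + (1 - e * ε) = 1 := congrArg Units.val h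
    rw [hcη] at h1
    refine h0 (eq_zero_of_neg h2 ?_)
    rw [← sub_eq_zero, ← neg_eq_zero, ← sub_eq_zero.2 h1]
    abel
  · simpa only [map_mul] using congrArg (cutHom hη) (Subtype.ext hab : a₁ * b₁ = c₁ * b₁ * a₁)
  · change ((a ^ m : Aˣ) : A) * _ = _
    rw [← we.eq, ← mul_assoc, ← mul_assoc]
    rcases h with h | ⟨rfl, h⟩
    · exact congrArg (· * e) h
    · rw [pow_one, mul_assoc (c : A), we.eq, hcη, ← we.eq, ← neg_mul]
      exact congrArg (· * e) h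
  · change ((b ^ m : Aˣ) : A) * _ = _
    rw [← we.eq, ← mul_assoc, ← mul_assoc]
    exact congrArg (· * e) h

section Co

variable {w : A}

/-- the corner -/
def Co (w x : A) : Prop := x * w = 0 ∧ w * x = 0

theorem Co.add {x y : A} (hx : Co w x) (hy : Co w y) : Co w (x + y) :=
  ⟨by rw [add_mul, hx.1, hy.1, add_zero], by rw [mul_add, hx.2, hy.2, add_zero]⟩

theorem Co.mul {x y : A} (hx : Co w x) (hy : Co w y) : Co w (x * y) :=
  ⟨by rw [mul_assoc, hy.1, mul_zero], by rw [← mul_assoc, hx.2, zero_mul]⟩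

theorem Co.neg {x : A} (hx : Co w x) : Co w (-x) :=
  ⟨by rw [neg_mul, hx.1, neg_zero], by rw [mul_neg, hx.2, neg_zero]⟩

theorem Co.smul {x : A} (hx : Co w x) (s : F) : Co w (s • x) :=
  ⟨by rw [smul_mul_assoc, hx.1, smul_zero], by rw [mul_smul_comm, hx.2, smul_zero]⟩

theorem Co.glue (hw : w * w = w) {x y : A} (hx : Co w x) (hy : Co w y) : (x + w) * (y + w) = x * y + w := by
  rw [add_mul, mul_add, mul_add, hx.1, hy.2, hw, add_zero, zero_add]

theorem Co.mul_e {x : A} (hx : Co w x) : x * (1 - w) = x := by rw [mul_sub, mul_one, hx.1, sub_zero]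

theorem Co.e_mul {x : A} (hx : Co w x) : (1 - w) * x = x := by rw [sub_mul, one_mul, hx.2, sub_zero]

theorem co_e (hw : w * w = w) : Co w (1 - w) :=
  ⟨by rw [sub_mul, one_mul, hw, sub_self], by rw [mul_sub, mul_one, hw, sub_self]⟩

end Co

/-- the data of `Tri` in the corner -/
theorem Tri.co (h2 : (2 : F) ≠ 0) (L : Lin F Γ R) {a b z : Aˣ} (h : Tri F Γ a b z) :
    ∃ w X Y : A, av F 2 (z : A) = w ∧ w * w = w ∧ Co w X ∧ Co w Y ∧ (a : A) = X + w ∧ (b : A) = Y + w ∧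
      (z : A) = -(1 - w) + w ∧ Y * X = -(X * Y) ∧ R w w ∧ R (1 - w) (1 - w) ∧
      R X (((a⁻¹ : Aˣ) : A) - w) ∧ R Y (((b⁻¹ : Aˣ) : A) - w) := by
  have zG : z ∈ Γ := Subgroup.commutator_le_self _ (mem_of_rel h.aG h.bG h.rel)
  have hw := av_idem h2 (val_pow_one h.z2)
  have hz : (z : A) = -(1 - av F 2 (z : A)) + av F 2 (z : A) := by
    rw [neg_sub, sub_add_eq_add_sub, two_av h2, add_sub_cancel_left]
  have hR : R (av F 2 (z : A)) (av F 2 (z : A)) := by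
    have h1 := L.mem z zG
    rw [show z⁻¹ = z from inv_eq_of_mul_eq_one_right (by rw [← sq, h.z2])] at h1
    rw [av_two]
    exact L.smul L.half (L.add L.one h1)
  have c1 : Commute (a : A) (av F 2 (z : A)) := commute_av (Commute.units_val h.za.symm)
  have c2 : Commute (b : A) (av F 2 (z : A)) := commute_av (Commute.units_val h.zb.symm)
  have aw := h.aw
  have bw := h.bw
  generalize av F 2 (z : A) = w at hw hz hR c1 c2 aw bw
  have hX : Co w ((a : A) - w) := ⟨by rw [sub_mul, aw, hw, sub_self], by rw [mul_sub, ← c1.eq, aw, hw, sub_self]⟩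
  have hY : Co w ((b : A) - w) := ⟨by rw [sub_mul, bw, hw, sub_self], by rw [mul_sub, ← c2.eq, bw, hw, sub_self]⟩
  have hs : ∀ {x x' : A}, R x x' → R (x - w) (x' - w) := fun h => by
    rw [sub_eq_add_neg, sub_eq_add_neg]
    exact L.add h (L.neg hR)
  refine ⟨w, a - w, b - w, rfl, hw, hX, hY, (sub_add_cancel _ _).symm, (sub_add_cancel _ _).symm, hz, ?_, hR,
    hs L.one, hs (L.mem a h.aG), hs (L.mem b h.bG)⟩
  have h1 := congrArg Units.val h.rel
  rw [Units.val_mul, Units.val_mul, Units.val_mul, hz, ← sub_add_cancel (a : A) w, ← sub_add_cancel (b : A) w,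
    hX.glue hw hY, (co_e hw).neg.glue hw hY, ((co_e hw).neg.mul hY).glue hw hX, add_left_inj, neg_mul, hY.e_mul,
    neg_mul] at h1
  rw [h1, neg_neg]

theorem Tri.inv_eq {a b z : Aˣ} (h : Tri F Γ a b z) : z⁻¹ = z := inv_eq_of_mul_eq_one_right (by rw [← sq, h.z2])

/-- from a dihedral to a quaternion group -/
theorem Tri.d8 (h2 : (2 : F) ≠ 0) (L : Lin F Γ R) {a b z : Aˣ} (h : Tri F Γ a b z) (ha : a ^ 2 = 1) (hb : b ^ 2 = 1) :
    ∃ i j : Aˣ, Tri F Γ i j z ∧ i ^ 2 = z ∧ j ^ 2 = z := by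
  obtain ⟨w, X, Y, e0, hw, hX, hY, e1, e2, e3, hYX, r0, -, r1, r2⟩ := h.co h2 L
  obtain ⟨α, β, hαβ, r3, r4⟩ := L.ab
  have sq1 : ∀ {g : Aˣ} {Z : A}, g ^ 2 = 1 → Co w Z → (g : A) = Z + w → Z * Z = 1 - w ∧ ((g⁻¹ : Aˣ) : A) - w = Z := by
    intro g Z g1 g2 g3
    have h1 := val_pow_one g1
    rw [g3, sq, g2.glue hw g2] at h1
    exact ⟨eq_sub_of_add_eq h1, by
      rw [show g⁻¹ = g from inv_eq_of_mul_eq_one_right (by rw [← sq, g1]), g3, add_sub_cancel_right]⟩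
  obtain ⟨x1, x2⟩ := sq1 ha hX e1
  obtain ⟨y1, y2⟩ := sq1 hb hY e2
  rw [x2] at r1
  rw [y2] at r2
  obtain ⟨i1, i2⟩ := d8_id x1 y1 hYX hY.e_mul hX.mul_e hαβ
  have hJ : Co w (α • X + β • Y) := (hX.smul α).add (hY.smul β)
  have r5 := L.add (L.add (L.smul r3 r1) (L.smul r4 r2)) r0
  rw [neg_smul, neg_smul, ← neg_add] at r5
  generalize α • X + β • Y = J at i1 i2 hJ r5
  obtain ⟨j, jG, j1, -⟩ := L.ex r5 (by rw [hJ.glue hw hJ.neg, mul_neg, i1, neg_neg, sub_add_cancel])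
    (by rw [hJ.neg.glue hw hJ, neg_mul, i1, neg_neg, sub_add_cancel])
  have j2 : j ^ 2 = z := Units.ext (by rw [Units.val_pow_eq_pow_val, j1, sq, hJ.glue hw hJ, i1, e3])
  refine ⟨a * b, j, ⟨mul_mem h.aG h.bG, jG, h.z2, h.z1, h.za.mul_right h.zb, j2 ▸ Commute.pow_self j 2,
    Units.ext ?_, by rw [Units.val_mul, mul_assoc, h.bw, h.aw], ?_⟩, ?_, j2⟩
  · rw [Units.val_mul, Units.val_mul, Units.val_mul, Units.val_mul, Units.val_mul, j1, e1, e2, e3, hX.glue hw hY,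
      (hX.mul hY).glue hw hJ, (co_e hw).neg.glue hw hJ, ((co_e hw).neg.mul hJ).glue hw (hX.mul hY), i2, neg_mul,
      hJ.e_mul, neg_mul]
  · rw [e0, j1, add_mul, hJ.1, hw, zero_add]
  · calc (a * b) ^ 2 = z * b * a ^ 2 * b := by rw [sq]; nth_rewrite 1 [h.rel]; rw [sq]; simp only [mul_assoc]
      _ = z := by rw [ha, mul_one, mul_assoc, ← sq, hb, mul_one]

/-- the quaternion group lies in the derived group -/
theorem Tri.q8 (h2 : (2 : F) ≠ 0) (L : Lin F Γ R) {a b z : Aˣ} (h : Tri F Γ a b z) (ha : a ^ 2 = z) (hb : b ^ 2 = z) :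
    a ∈ ⁅Γ, Γ⁆ ∧ b ∈ ⁅Γ, Γ⁆ := by
  obtain ⟨w, X, Y, -, hw, hX, hY, e1, e2, e3, hYX, r0, r0', r1, r2⟩ := h.co h2 L
  have sq1 : ∀ {g : Aˣ} {Z : A}, g ^ 2 = z → Co w Z → (g : A) = Z + w →
      Z * Z = -(1 - w) ∧ ((g⁻¹ : Aˣ) : A) - w = -Z := by
    intro g Z g1 g2 g3
    have h1 := congrArg Units.val g1
    rw [Units.val_pow_eq_pow_val, g3, sq, g2.glue hw g2, e3, add_left_inj] at h1
    refine ⟨h1, sub_eq_of_eq_add (Units.inv_eq_of_mul_eq_one_right ?_)⟩
    rw [g3, g2.glue hw g2.neg, mul_neg, h1, neg_neg, sub_add_cancel]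
  obtain ⟨x1, x2⟩ := sq1 ha hX e1
  obtain ⟨y1, y2⟩ := sq1 hb hY e2
  rw [x2] at r1
  rw [y2] at r2
  have he := co_e hw
  obtain ⟨i1, i2, i3, i4⟩ := q8_id x1 y1 hYX he.mul_e hX.e_mul hY.e_mul hY.mul_e hX.mul_e
  have r3 := L.mul r1 r2
  rw [neg_mul_neg, hYX] at r3
  have r5 := L.add (L.smul L.half (L.add (L.add (L.add (L.neg r0') r1) r2) r3)) r0
  have hW : Co w (-(1 - w) + X + Y + X * Y) := ((he.neg.add hX).add hY).add (hX.mul hY)
  have hW' : Co w (-(1 - w) + -X + -Y + -(X * Y)) := ((he.neg.add hX.neg).add hY.neg).add (hX.mul hY).neg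
  generalize -(1 - w) + X + Y + X * Y = W at i1 i2 i3 i4 r5 hW
  generalize -(1 - w) + -X + -Y + -(X * Y) = W' at i3 i4 r5 hW'
  have h4 : (2 : F)⁻¹ • (2 : F)⁻¹ • (1 - w + (1 - w) + (1 - w) + (1 - w)) + w = 1 := by
    rw [show 1 - w + (1 - w) + (1 - w) + (1 - w) = (2 : F) • (2 : F) • (1 - w) by module, smul_comm (2 : F)⁻¹ (2 : F),
      inv_smul_smul₀ h2, inv_smul_smul₀ h2, sub_add_cancel]
  obtain ⟨u, uG, u1, -⟩ := L.ex r5
    (by rw [(hW.smul _).glue hw (hW'.smul _), smul_mul_assoc, mul_smul_comm, i3, h4])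
    (by rw [(hW'.smul _).glue hw (hW.smul _), smul_mul_assoc, mul_smul_comm, i4, h4])
  have u2 : u * a = a * b * u := Units.ext (by
    rw [Units.val_mul, Units.val_mul, Units.val_mul, u1, e1, e2, (hW.smul _).glue hw hX, hX.glue hw hY,
      (hX.mul hY).glue hw (hW.smul _), smul_mul_assoc, mul_smul_comm, i1])
  have u3 : u * b = a * u := Units.ext (by
    rw [Units.val_mul, Units.val_mul, u1, e1, e2, (hW.smul _).glue hw hY, hX.glue hw (hW.smul _), smul_mul_assoc,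
      mul_smul_comm, i2])
  have m0 := mem_of_rel h.aG h.bG h.rel
  have m1 : z * b ∈ ⁅Γ, Γ⁆ := mem_of_rel uG h.aG (by rw [u2, h.rel])
  have m2 : a * b⁻¹ ∈ ⁅Γ, Γ⁆ := mem_of_rel uG h.bG (by rw [u3]; group)
  have m3 : b ∈ ⁅Γ, Γ⁆ := (Subgroup.mul_mem_cancel_left _ m0).1 m1
  exact ⟨(Subgroup.mul_mem_cancel_right _ (inv_mem m3)).1 m2, m3⟩

variable [Finite A]

theorem isPGroup_inv {H : Type*} [Group H] [Finite H] {x y : H} {n : ℕ} (hx : x ^ 2 ^ n = 1) (hy : y ^ 2 ^ n = 1)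
    (h : y * x * y⁻¹ = x⁻¹) : IsPGroup 2 (Subgroup.zpowers x ⊔ Subgroup.zpowers y : Subgroup H) := by
  refine IsPGroup.to_sup_of_normal_left' (isPGroup_zpowers_of_pow hx) (isPGroup_zpowers_of_pow hy) ?_
  rw [Subgroup.zpowers_le, Subgroup.zpowers_eq_closure]
  refine mem_normalizer_closure ?_
  rintro _ rfl
  rw [h]
  exact inv_mem (Subgroup.subset_closure rfl)

theorem Tri.pg {a b z : Aˣ} (h : Tri F Γ a b z) (ha : a ^ 2 = z) (hb : b ^ 2 = z) :
    IsPGroup 2 (Subgroup.zpowers a ⊔ Subgroup.zpowers b : Subgroup Aˣ) := by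
  refine isPGroup_inv (n := 2) (by rw [sq 2, pow_mul, ha, h.z2]) (by rw [sq 2, pow_mul, hb, h.z2]) ?_
  rw [rel_swap h.rel, mul_inv_cancel_right, ← ha]
  group

theorem sup_le_G {a b : Aˣ} (aG : a ∈ Γ) (bG : b ∈ Γ) : Subgroup.zpowers a ⊔ Subgroup.zpowers b ≤ Γ :=
  sup_le (Subgroup.zpowers_le.2 aG) (Subgroup.zpowers_le.2 bG)

theorem Hyp.two (H : Hyp 2 F Γ S) : (2 : F) ≠ 0 := by exact_mod_cast H.ne

theorem eq_neg_of_av (h2 : (2 : F) ≠ 0) {x : Aˣ} (h : av F 2 (x : A) = 0) : x = sc F A (-1) := by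
  have h1 := two_av h2 (x : A)
  rw [h, add_zero] at h1
  refine Units.ext ?_
  rw [val_sc, Units.val_neg, Units.val_one, map_neg, map_one]
  exact (neg_eq_of_add_eq_zero_right h1.symm).symm

theorem Tri.av_zero (H : Hyp 2 F Γ S) (L : Lin F Γ R) {a b z : Aˣ} (h : Tri F Γ a b z) (ha : a ^ 2 = z)
    (hb : b ^ 2 = z) : av F 2 (z : A) = 0 := by
  obtain ⟨h1, h2⟩ := h.q8 H.two L ha hb
  obtain ⟨ζ, hζ⟩ := H.sca _ (sup_le_G h.aG h.bG) (h.pg ha hb) a (Subgroup.mem_sup_left (Subgroup.mem_zpowers a)) b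
    (Subgroup.mem_sup_right (Subgroup.mem_zpowers b)) (H.com h1) (H.com h2)
  have h3 : z = sc F A ζ := by rw [hζ, h.rel]; group
  by_contra h0
  have h4 := mul_av (F := F) (val_pow_one h.z2)
  nth_rewrite 1 [h3] at h4
  exact h.z1 (by rw [h3, eq_one_of_fix h4 h0, map_one])

theorem Tri.invol (H : Hyp 2 F Γ S) (L : Lin F Γ R) {a b z : Aˣ} (h : Tri F Γ a b z) (ha : a ^ 2 = z)
    (hb : b ^ 2 = z) {x : Aˣ} (hx : x ∈ Γ) (h1 : x ^ 2 = 1) (xa : Commute x a) (xb : Commute x b) :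
    x ∈ (sc F A).range := by
  have h0 := h.av_zero H L ha hb
  by_cases h3 : 1 - av F 2 (x : A) = 0
  · have h4 := mul_av (F := F) (val_pow_one h1)
    rw [← sub_eq_zero.1 h3, mul_one] at h4
    rw [show x = 1 from Units.ext h4]
    exact one_mem _
  · obtain ⟨a', b', z', t1, t2, t3, t4⟩ := exists_cut H.two H.cut h.aG h.bG h.z2 h.za h.zb h.rel
      (IsIdempotentElem.one_sub (av_idem H.two (val_pow_one h1))) (H.cut.good hx h1).one_sub
      ((Commute.one_right _).sub_right (commute_av (Commute.units_val xa.symm)))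
      ((Commute.one_right _).sub_right (commute_av (Commute.units_val xb.symm)))
      (by rwa [h0, sub_zero, one_mul])
    have h4 := t1.av_zero H L (by rw [t3 2 1 (Or.inl (by rw [ha, pow_one])), pow_one])
      (by rw [t4 2 1 (by rw [hb, pow_one]), pow_one])
    rw [t2, h0, sub_zero, one_mul, sub_sub_cancel] at h4
    exact ⟨-1, (eq_neg_of_av H.two h4).symm⟩

/-- there is no self-adjoint square root of two in the centralizer -/
theorem Tri.no_root (H : Hyp 2 F Γ S) (L : Lin F Γ R) {a b z : Aˣ} (h : Tri F Γ a b z) (ha : a ^ 2 = z)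
    (hb : b ^ 2 = z) {κ : A} (hκ : R κ κ) (h1 : κ * κ = (2 : F) • 1) (ka : Commute κ a) (kb : Commute κ b) : False := by
  have h2 := H.two
  have hz : (z : A) = -1 := by
    rw [eq_neg_of_av h2 (h.av_zero H L ha hb), val_sc, Units.val_neg, Units.val_one, map_neg, map_one]
  have aa : (a : A) * a = -1 := by rw [← Units.val_mul, ← sq, ha, hz]
  have ai : ((a⁻¹ : Aˣ) : A) = -a := Units.inv_eq_of_mul_eq_one_right (by rw [mul_neg, aa, neg_neg])
  have ab : (a : A) * b = -(b * a) := by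
    rw [← Units.val_mul, h.rel, Units.val_mul, Units.val_mul, hz, neg_mul, one_mul, neg_mul]
  have r1 := L.smul L.half (L.mul hκ (L.add L.one (L.mem a h.aG)))
  rw [ai] at r1
  have c1 : Commute κ (1 + (a : A)) := (Commute.one_right _).add_right ka
  have c2 : Commute κ (1 + -(a : A)) := (Commute.one_right _).add_right ka.neg_right
  have prod : ∀ {X Y : A}, Commute κ X → ((2 : F)⁻¹ • (κ * X)) * ((2 : F)⁻¹ • (κ * Y)) = (2 : F)⁻¹ • (X * Y) := by
    intro X Y hX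
    rw [smul_mul_assoc, mul_smul_comm, mul_assoc, ← mul_assoc X, ← hX.eq, ← mul_assoc, ← mul_assoc, h1,
      smul_mul_assoc, smul_mul_assoc, one_mul, inv_smul_smul₀ h2]
  rw [← c2.eq] at r1
  obtain ⟨t, tG, t1, t2⟩ := L.ex r1
    (by rw [prod c1, show (1 + (a : A)) * (1 + -a) = (2 : F) • 1 by
      rw [two_smul, mul_add, add_mul, mul_neg, add_mul, aa]; noncomm_ring, inv_smul_smul₀ h2])
    (by rw [prod c2, show (1 + -(a : A)) * (1 + a) = (2 : F) • 1 by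
      rw [two_smul, mul_add, add_mul, add_mul, neg_mul, neg_mul, aa]; noncomm_ring, inv_smul_smul₀ h2])
  have t3 : t ^ 2 = a := Units.ext (by
    rw [sq, Units.val_mul, t1, prod c1, show (1 + (a : A)) * (1 + a) = (2 : F) • (a : A) by
      rw [two_smul, mul_add, add_mul, add_mul, aa]; noncomm_ring, inv_smul_smul₀ h2])
  have t4 : b * t = t⁻¹ * b := Units.ext (by
    rw [Units.val_mul, Units.val_mul, t1, t2, mul_smul_comm, smul_mul_assoc, ← mul_assoc, ← kb.eq, mul_assoc,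
      mul_assoc, add_mul, neg_mul, ab, neg_neg, mul_add (b : A), mul_one, one_mul])
  have ta : Commute t a := t3 ▸ Commute.self_pow t 2
  have zt : Commute z t := ha ▸ (ta.symm.pow_left 2)
  have h3 : Tri F Γ a (t * b) z := ⟨h.aG, mul_mem tG h.bG, h.z2, h.z1, h.za, zt.mul_right h.zb, by
    rw [← mul_assoc, ← ta.eq, mul_assoc, h.rel, ← mul_assoc, ← mul_assoc, ← zt.eq]; simp only [mul_assoc], h.aw, by
    rw [h.av_zero H L ha hb, mul_zero]⟩
  have h4 : (t * b) ^ 2 = z := by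
    rw [sq, mul_assoc, ← mul_assoc b, t4, ← hb, sq]; group
  have tS : t ∈ S := (Subgroup.mul_mem_cancel_right _ (H.com (h.q8 h2 L ha hb).2)).1 (H.com (h3.q8 h2 L ha h4).2)
  have h5 : b * t * b⁻¹ = t⁻¹ := by rw [t4, mul_inv_cancel_right]
  obtain ⟨c, hc⟩ := H.sca _ (sup_le_G tG h.bG) (isPGroup_inv (n := 3)
      (by rw [show 2 ^ 3 = 2 * 2 * 2 from rfl, pow_mul, pow_mul, t3, ha, h.z2])
      (by rw [show 2 ^ 3 = 2 * 2 * 2 from rfl, pow_mul, pow_mul, hb, h.z2, one_pow]) h5)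
    t (Subgroup.mem_sup_left (Subgroup.mem_zpowers t)) b (Subgroup.mem_sup_right (Subgroup.mem_zpowers b)) tS
    (H.com (h.q8 h2 L ha hb).2)
  have h6 : t * b * t⁻¹ * b⁻¹ = a := by
    calc t * b * t⁻¹ * b⁻¹ = t * (b * t * b⁻¹)⁻¹ := by group
      _ = a := by rw [h5, inv_inv, ← sq, t3]
  have h7 := h.rel
  rw [← h6, ← hc, (sc_comm c b).eq, mul_assoc] at h7
  exact h.z1 (mul_eq_right.1 h7.symm)

theorem Tri.cen (H : Hyp 2 F Γ S) (L : Lin F Γ R) {a b z : Aˣ} (h : Tri F Γ a b z) (ha : a ^ 2 = z)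
    (hb : b ^ 2 = z) (n : ℕ) : ∀ x ∈ Γ, x ^ 2 ^ n = 1 → Commute x a → Commute x b → x ∈ (sc F A).range := by
  induction n with
  | zero =>
    intro x _ h1 _ _
    rw [pow_zero, pow_one] at h1
    rw [h1]
    exact one_mem _
  | succ n ih =>
    intro x hx h1 xa xb
    obtain ⟨c, hc⟩ := ih (x ^ 2) (pow_mem hx 2) (by rw [← pow_mul, ← pow_succ', h1]) (xa.pow_left 2) (xb.pow_left 2)
    rcases L.tri c (hc ▸ pow_mem hx 2) with ⟨r, h4, h5⟩ | ⟨s, h4, h5⟩ | ⟨l, h4, h5⟩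
    · have h6 := h.invol H L ha hb (mul_mem hx (inv_mem h4))
        (by rw [(sc_comm r x).symm.inv_right.mul_pow, ← hc, inv_pow, ← map_pow, h5, mul_inv_cancel])
        (xa.mul_left (sc_comm r a).inv_left) (xb.mul_left (sc_comm r b).inv_left)
      exact (Subgroup.mul_mem_cancel_right _ (inv_mem (MonoidHom.mem_range.2 ⟨r, rfl⟩))).1 h6
    · exact (h.no_root H L ha hb h5 (by rw [smul_mul_assoc, one_mul, smul_smul, ← sq, h4])
        ((Commute.one_left _).smul_left s) ((Commute.one_left _).smul_left s)).elim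
    · have h6 : (x : A) * x = (c : F) • 1 := by rw [← Units.val_mul, ← sq, ← hc, ← sc_mul_val, mul_one]
      have h7 := L.smul h5 (L.mem x hx)
      have h8 : (c : F) • ((x⁻¹ : Aˣ) : A) = x := by
        rw [← one_mul ((x⁻¹ : Aˣ) : A), ← smul_mul_assoc, ← h6, Units.mul_inv_cancel_right]
      rw [mul_comm, mul_smul, h8] at h7
      exact (h.no_root H L ha hb h7 (by rw [smul_mul_assoc, mul_smul_comm, h6, smul_smul, smul_smul, ← sq, h4])
        ((Commute.units_val xa).smul_left l) ((Commute.units_val xb).smul_left l)).elim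

theorem Tri.of_invol (h2 : (2 : F) ≠ 0) (hΓ : CutClosed 2 F Γ) (L : Lin F Γ R) {a b z : Aˣ} (h : Tri F Γ a b z)
    (hb : b ^ 2 = 1) : ∃ i j z : Aˣ, Tri F Γ i j z ∧ i ^ 2 = z ∧ j ^ 2 = z := by
  obtain ⟨a', t1, t2, t3, t4, t5⟩ := exists_order_p (p := 2) (by exact_mod_cast h2) hΓ h.bG
    (Subgroup.commutator_le_self _ (mem_of_rel h.aG h.bG h.rel)) hb h.z2 h.zb h.aG h.za h.rel h.aw
  obtain ⟨i, j, h1⟩ := Tri.d8 h2 L ⟨t1, h.bG, h.z2, h.z1, t3, h.zb, t4, t5, h.bw⟩ t2 hb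
  exact ⟨i, j, z, h1⟩

theorem Tri.pow_w {a b z : Aˣ} (h : Tri F Γ a b z) (m : ℕ) :
    ((a ^ m : Aˣ) : A) * av F 2 (z : A) = av F 2 (z : A) := by
  induction m with
  | zero => rw [pow_zero, Units.val_one, one_mul]
  | succ i ih => rw [pow_succ, Units.val_mul, mul_assoc, h.aw, ih]

theorem Tri.sq_comm {a b z : Aˣ} (h : Tri F Γ a b z) : Commute (a ^ 2) b := by
  have := pow_mul_of_rel h.za h.rel 2
  rwa [h.z2, one_mul] at this

theorem Tri.of_four (h2 : (2 : F) ≠ 0) (hΓ : CutClosed 2 F Γ) (L : Lin F Γ R) {a b z : Aˣ} (h : Tri F Γ a b z)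
    (hb : b ^ 2 = z) {n : ℕ} (ha : a ^ 2 ^ n = 1) : ∃ i j z : Aˣ, Tri F Γ i j z ∧ i ^ 2 = z ∧ j ^ 2 = z := by
  classical
  by_cases h1 : a ^ 2 = 1
  · refine Tri.of_invol h2 hΓ L (a := a) (b := b * a) (z := z) ⟨h.aG, mul_mem h.bG h.aG, h.z2, h.z1, h.za,
      h.zb.mul_right h.za, by rw [← mul_assoc, h.rel]; simp only [mul_assoc], h.aw,
      by rw [Units.val_mul, mul_assoc, h.aw, h.bw]⟩ ?_
    rw [mul_pow_of_rel h.za h.zb h.rel, h1, hb, Nat.choose_self, pow_one, mul_one, ← sq, h.z2]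
  have hex : ∃ k, a ^ (2 * 2 ^ (k + 1)) = 1 := ⟨n, by rw [pow_succ, mul_left_comm, pow_mul, ha, one_pow]⟩
  obtain ⟨k, hk1, hk2⟩ : ∃ k, a ^ (2 * 2 ^ (k + 1)) = 1 ∧ a ^ (2 * 2 ^ k) ≠ 1 := by
    refine ⟨Nat.find hex, Nat.find_spec hex, ?_⟩
    rcases hk : Nat.find hex with _ | k
    · exact h1
    · exact Nat.find_min hex (by rw [hk]; exact Nat.lt_succ_self k)
  have g2 : (a ^ (2 * 2 ^ k)) ^ 2 = 1 := by rw [← pow_mul, mul_assoc, ← pow_succ, hk1]
  have gb : Commute (a ^ (2 * 2 ^ k)) b := by rw [pow_mul]; exact h.sq_comm.pow_left _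
  obtain ⟨a', b', z', t1, -, t3, t4⟩ := exists_cut h2 hΓ h.aG h.bG h.z2 h.za h.zb h.rel
    (IsIdempotentElem.one_sub (av_idem h2 (val_pow_one g2))) (hΓ.good (pow_mem h.aG _) g2).one_sub
    ((Commute.one_right _).sub_right (commute_av (Commute.units_val (Commute.self_pow a _))))
    ((Commute.one_right _).sub_right (commute_av (Commute.units_val gb.symm))) (by
      intro h0
      have h3 : Commute (av F 2 (z : A)) (av F 2 ((a ^ (2 * 2 ^ k) : Aˣ) : A)) :=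
        commute_av (commute_av (Commute.units_val (h.za.symm.pow_left _))).symm
      rw [sub_mul, one_mul, mul_sub, mul_one, h3.eq, av_mul_of_fix h2 (h.pow_w _), sub_self, sub_zero] at h0
      have h4 := mul_av (F := F) (val_pow_one g2)
      rw [← sub_eq_zero.1 h0, mul_one] at h4
      exact hk2 (Units.ext h4))
  have s1 := t3 (2 * 2 ^ k) 1 (Or.inr ⟨rfl, mul_co h2 g2⟩)
  have s2 := t4 2 1 (by rw [hb, pow_one])
  rw [pow_one] at s1 s2
  rcases k with _ | k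
  · exact ⟨a', b', z', t1, s1, s2⟩
  · have s3 : Commute (a' ^ (2 * 2 ^ k)) b' := by rw [pow_mul]; exact t1.sq_comm.pow_left _
    refine Tri.of_invol h2 hΓ L (a := a') (b := a' ^ (2 * 2 ^ k) * b') (z := z') ⟨t1.aG,
      mul_mem (pow_mem t1.aG _) t1.bG, t1.z2, t1.z1, t1.za, (t1.za.pow_right _).mul_right t1.zb, ?_, t1.aw,
      by rw [Units.val_mul, mul_assoc, t1.bw, t1.pow_w]⟩ ?_
    · rw [← mul_assoc, (Commute.self_pow a' _).eq, mul_assoc, t1.rel, ← mul_assoc, ← mul_assoc,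
        ← (t1.za.pow_right _).eq]
      simp only [mul_assoc]
    · rw [s3.mul_pow, ← pow_mul, mul_assoc, ← pow_succ, s1, s2, ← sq, t1.z2]

theorem exists_q8_aux (h2 : (2 : F) ≠ 0) (hΓ : CutClosed 2 F Γ) (L : Lin F Γ R) {a b c : Aˣ} (aG : a ∈ Γ) (bG : b ∈ Γ)
    (ca : Commute c a) (cb : Commute c b) (hc : c ^ 2 = 1) (hab : a * b = c * b * a) {n : ℕ} (ha : a ^ 2 ^ n = 1)
    (hb : b ^ 2 ^ n = 1) {j : ℕ} (hj : (1 - av F 2 (c : A)) * av F (2 ^ n) ((b ^ 2 * (a ^ 2) ^ j : Aˣ) : A) ≠ 0) :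
    ∃ i j z : Aˣ, Tri F Γ i j z ∧ i ^ 2 = z ∧ j ^ 2 = z := by
  have hαb : Commute (a ^ 2) b := by
    have := pow_mul_of_rel ca hab 2
    rwa [hc, one_mul] at this
  have hβa : Commute (b ^ 2) a := by
    have := pow_mul_of_rel cb.inv_left (rel_swap hab) 2
    rwa [inv_pow, hc, inv_one, one_mul] at this
  set γ := b ^ 2 * (a ^ 2) ^ j with hγ
  have hγa : Commute γ a := hβa.mul_left ((Commute.pow_self a 2).pow_left j)
  have hγb : Commute γ b := (Commute.pow_self b 2).mul_left (hαb.pow_left j)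
  have hγn : γ ^ 2 ^ n = 1 := by
    rw [hγ, ((hβa.pow_right 2).pow_right j).mul_pow, ← pow_mul, mul_comm 2, pow_mul, hb, one_pow,
      ← pow_mul, ← pow_mul, mul_comm j, mul_left_comm, pow_mul, ha, one_pow, one_mul]
  have hγΓ : γ ∈ Γ := mul_mem (pow_mem bG _) (pow_mem (pow_mem aG _) _)
  have hb1 : (b * a ^ j) ^ 2 = c ^ j * γ := by
    rw [mul_pow_of_rel (c := c ^ j) (ca.pow_pow j j) (cb.pow_left j) (pow_mul_of_rel ca hab j), Nat.choose_self,
      pow_one, hγ, ← pow_mul, ← pow_mul, mul_comm j]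
  have hab1 : a * (b * a ^ j) = c * (b * a ^ j) * a := by
    rw [← mul_assoc, hab, mul_assoc, (Commute.self_pow a j).eq]
    simp only [mul_assoc]
  have hN : ((2 ^ n : ℕ) : F) ≠ 0 := by exact_mod_cast pow_ne_zero n h2
  obtain ⟨a', b', z, t1, -, t3, t4⟩ := exists_cut h2 hΓ aG (mul_mem bG (pow_mem aG j)) hc ca
    (cb.mul_right (ca.pow_right j)) hab1 (av_idem hN (val_pow_one hγn)) (hΓ γ hγΓ n hγn)
    (commute_av (Commute.units_val hγa.symm))
    (commute_av (Commute.units_val (hγb.mul_right (hγa.pow_right j)).symm)) hj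
  have s1 := t3 (2 ^ n) 0 (Or.inl (by rw [ha, pow_zero]))
  have s2 := t4 2 j (by rw [hb1, Units.val_mul, mul_assoc, mul_av (val_pow_one hγn)])
  rw [pow_zero] at s1
  rcases Nat.even_or_odd' j with ⟨k, rfl | rfl⟩
  · exact t1.of_invol h2 hΓ L (by rw [s2, pow_mul, t1.z2, one_pow])
  · exact t1.of_four h2 hΓ L (by rw [s2, pow_succ, pow_mul, t1.z2, one_pow, one_mul]) s1

theorem gen_two (L : Lin F Γ R) (H : Hyp 2 F Γ S) : Gen 2 F Γ S := by
  intro a aG b bG c ca cb hc hc1 hab n ha hb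
  have h2 := H.two
  obtain ⟨i, j, z, h, hi, hj⟩ : ∃ i j z : Aˣ, Tri F Γ i j z ∧ i ^ 2 = z ∧ j ^ 2 = z := by
    have hαb : Commute (a ^ 2) b := by
      have := pow_mul_of_rel ca hab 2
      rwa [hc, one_mul] at this
    have hw := av_idem h2 (val_pow_one hc)
    have hpp : ∀ {g : Aˣ}, g ^ 2 ^ n = 1 → ((g ^ 2 : Aˣ) : A) ^ 2 ^ n = 1 := fun h =>
      val_pow_one (by rw [← pow_mul, mul_comm, pow_mul, h, one_pow])
    have hce : ∀ {g : Aˣ}, Commute c g → Commute ((g ^ 2 : Aˣ) : A) (1 - av F 2 (c : A)) := fun h =>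
      (Commute.one_right _).sub_right (commute_av (Commute.units_val (h.symm.pow_left 2)))
    have he0 : 1 - av F 2 (c : A) ≠ 0 := by
      intro h
      apply hc1
      apply Units.ext
      have h1 := mul_av (F := F) (val_pow_one hc)
      rwa [← sub_eq_zero.1 h, mul_one] at h1
    rcases exists_av_ne_zero H.ne (hpp ha) (hpp hb) (Commute.units_val (hαb.pow_right 2)) (hce ca)
      (hce cb) (IsIdempotentElem.one_sub hw) he0 with ⟨j, hj⟩ | ⟨j, hj⟩
    · exact exists_q8_aux h2 H.cut L aG bG ca cb hc hab ha hb (j := j)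
        (by rw [Units.val_mul, Units.val_pow_eq_pow_val _ j]; exact hj)
    · exact exists_q8_aux h2 H.cut L bG aG cb.inv_left ca.inv_left
        (by rw [inv_pow, hc, inv_one]) (rel_swap hab) hb ha (j := j)
        (by rw [av_inv h2 hc, Units.val_mul, Units.val_pow_eq_pow_val _ j]; exact hj)
  have hz := eq_neg_of_av h2 (h.av_zero H L hi hj)
  obtain ⟨h3, h4⟩ := h.q8 h2 L hi hj
  exact ⟨i, j, _, ⟨h.aG, h.bG, H.com h3, H.com h4, ⟨-1, fun h5 => h.z1 (by rw [hz, h5, map_one]), by simp,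
    hz ▸ h.rel⟩, ⟨-1, by rw [hi, hz]⟩, ⟨-1, by rw [hj, hz]⟩, fun x hx ⟨m, hm⟩ => h.cen H L hi hj m x hx hm⟩,
    sup_le_G h.aG h.bG, h.pg hi hj, Subgroup.mem_sup_left (Subgroup.mem_zpowers i),
    Subgroup.mem_sup_right (Subgroup.mem_zpowers j)⟩

end Cfsg.Agent.KM.A
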